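import Mathlib
import Cfsg.Agent.Lib.SuzukiTwo.AdditiveMaps

/-!
The structure map of a Zassenhaus group whose kernel is a Suzuki 2-group of order `q ^ 2`: the
functional equation determines the twist and the map.
-/

set_option autoImplicit false
set_option linter.style.haveILetI false
set_option linter.unusedSectionVars false

namespace CfsgLib.ZTUnique

variable {F : Type*} [Field F] [Fintype F] [CharP F 2]

/-- The product on pairs. -/
def mulA (θ : F ≃+* F) (p q : F × F) : F × F := (p.1 + q.1, p.2 + q.2 + p.1 * θ q.1)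

/-- The inverse on pairs. -/
def invA (θ : F ≃+* F) (p : F × F) : F × F := (p.1, p.2 + p.1 * θ p.1)

/-- The scalars on pairs. -/
def scalA (θ : F ≃+* F) (l : F) (p : F × F) : F × F := (l * p.1, l * θ l * p.2)

variable {θ : F ≃+* F}

theorem two_zero (a : F) : a + a = 0 := CharTwo.add_self_eq_zero a

theorem mulA_invA (p : F × F) : mulA θ p (invA θ p) = 0 := by
  refine Prod.ext (two_zero _) ?_
  show p.2 + (p.2 + p.1 * θ p.1) + p.1 * θ p.1 = 0
  linear_combination two_zero p.2 + two_zero (p.1 * θ p.1)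

theorem invA_mulA (p : F × F) : mulA θ (invA θ p) p = 0 := by
  refine Prod.ext (two_zero _) ?_
  show p.2 + p.1 * θ p.1 + p.2 + p.1 * θ p.1 = 0
  linear_combination two_zero p.2 + two_zero (p.1 * θ p.1)

theorem mulA_assoc (p q r : F × F) : mulA θ (mulA θ p q) r = mulA θ p (mulA θ q r) := by
  refine Prod.ext (add_assoc _ _ _) ?_
  show p.2 + q.2 + p.1 * θ q.1 + r.2 + (p.1 + q.1) * θ r.1 =
    p.2 + (q.2 + r.2 + q.1 * θ r.1) + p.1 * θ (q.1 + r.1)
  rw [map_add]
  ring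

theorem zero_mulA (p : F × F) : mulA θ 0 p = p := by
  refine Prod.ext (zero_add _) ?_
  show (0 : F) + p.2 + 0 * θ p.1 = p.2
  ring

theorem mulA_zero (p : F × F) : mulA θ p 0 = p := by
  refine Prod.ext (add_zero _) ?_
  show p.2 + 0 + p.1 * θ 0 = p.2
  rw [map_zero, mul_zero, add_zero, add_zero]

theorem scalA_scalA (l m : F) (p : F × F) : scalA θ l (scalA θ m p) = scalA θ (l * m) p := by
  refine Prod.ext (mul_assoc _ _ _).symm ?_
  show l * θ l * (m * θ m * p.2) = l * m * θ (l * m) * p.2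
  rw [map_mul]
  ring

theorem scalA_one (p : F × F) : scalA θ 1 p = p := by
  simp [scalA]

theorem scalA_mulA (l : F) (p q : F × F) :
    scalA θ l (mulA θ p q) = mulA θ (scalA θ l p) (scalA θ l q) := by
  refine Prod.ext (mul_add _ _ _) ?_
  show l * θ l * (p.2 + q.2 + p.1 * θ q.1) = l * θ l * p.2 + l * θ l * q.2 + l * p.1 * θ (l * q.1)
  rw [map_mul]
  ring

theorem scalA_invA (l : F) (p : F × F) : scalA θ l (invA θ p) = invA θ (scalA θ l p) := by
  refine Prod.ext rfl ?_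
  show l * θ l * (p.2 + p.1 * θ p.1) = l * θ l * p.2 + l * p.1 * θ (l * p.1)
  rw [map_mul]
  ring

theorem scalA_ne_zero {l : F} (hl : l ≠ 0) {p : F × F} (hp : p ≠ 0) : scalA θ l p ≠ 0 := by
  intro h
  have := congrArg (scalA θ l⁻¹) h
  rw [scalA_scalA, inv_mul_cancel₀ hl, scalA_one] at this
  exact hp (this.trans (by simp [scalA]))

theorem mul_theta_ne_zero {x : F} (hx : x ≠ 0) : x * θ x ≠ 0 :=
  mul_ne_zero hx (by simpa using hx)

/-- The hypotheses on the structure map. -/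
structure Alg (θ : F ≃+* F) (π : F × F → F × F) (h : F × F → F) : Prop where
  norm_inj : ∀ x : F, x ≠ 0 → x * θ x = 1 → x = 1
  large : ∃ b : F, b ≠ 0 ∧ b ≠ 1
  ne : ∀ p, p ≠ 0 → π p ≠ 0
  invol : ∀ p, p ≠ 0 → π (π p) = p
  h_ne : ∀ p, p ≠ 0 → h p ≠ 0
  scal : ∀ l p, l ≠ 0 → p ≠ 0 → π (scalA θ l p) = scalA θ l⁻¹ (π p)
  h_scal : ∀ l p, l ≠ 0 → p ≠ 0 → h (scalA θ l p) = h p / (l * l)
  func : ∀ p v, p ≠ 0 → v ≠ 0 → mulA θ p (π v) ≠ 0 →
    mulA θ (invA θ (π (invA θ p))) v ≠ 0 →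
    π (mulA θ p (π v)) =
      mulA θ (π p) (scalA θ (h p) (π (mulA θ (invA θ (π (invA θ p))) v)))
  normal : (π (0, 1)).1 = 1

namespace Alg

variable {π : F × F → F × F} {h : F × F → F} (hA : Alg θ π h)
include hA

theorem norm_bij {t : F} (ht : t ≠ 0) : ∃! x : F, x * θ x = t := by
  classical
  let f : {x : F // x ≠ 0} → {x : F // x ≠ 0} :=
    fun x => ⟨x.1 * θ x.1, mul_theta_ne_zero x.2⟩
  have hf : Function.Injective f := by
    intro x y e
    have e' : x.1 * θ x.1 = y.1 * θ y.1 := congrArg Subtype.val e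
    have := hA.norm_inj (x.1 / y.1) (div_ne_zero x.2 y.2) (by
      rw [map_div₀, div_mul_div_comm, e', div_self (mul_theta_ne_zero y.2)])
    exact Subtype.ext ((div_eq_one_iff_eq y.2).1 this)
  obtain ⟨x, hx⟩ := Finite.surjective_of_injective hf ⟨t, ht⟩
  refine ⟨x.1, congrArg Subtype.val hx, fun y hy => ?_⟩
  have hy0 : y ≠ 0 := fun h => ht (by rw [← hy, h, zero_mul])
  exact congrArg Subtype.val (hf (a₁ := ⟨y, hy0⟩) (a₂ := x) ((Subtype.ext hy).trans hx.symm))

theorem norm_eq {x y : F} (hy : y ≠ 0) (e : x * θ x = y * θ y) : x = y :=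
  (hA.norm_bij (mul_theta_ne_zero hy)).unique e rfl

theorem exists_root {t : F} (ht : t ≠ 0) : ∃ x : F, x ≠ 0 ∧ x * θ x = t := by
  obtain ⟨x, hx, -⟩ := hA.norm_bij ht
  exact ⟨x, fun h0 => ht (by rw [← hx, h0, zero_mul]), hx⟩

theorem zero_one_ne : ((0 : F), (1 : F)) ≠ 0 := fun e => one_ne_zero (congrArg Prod.snd e)

theorem pi_one : π (0, 1) = (1, (π (0, 1)).2) := Prod.ext hA.normal rfl

theorem h_one_ne : h (0, 1) ≠ 0 := hA.h_ne _ hA.zero_one_ne

theorem central_eq {B t : F} (ht : B * θ B = t) : ((0 : F), t) = scalA θ B (0, 1) := by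
  refine Prod.ext (mul_zero B).symm ?_
  show t = B * θ B * 1
  rw [mul_one, ht]

theorem pi_central {B t : F} (hB : B ≠ 0) (ht : B * θ B = t) :
    π (0, t) = (B⁻¹, (π (0, 1)).2 / t) := by
  rw [hA.central_eq ht, hA.scal B _ hB hA.zero_one_ne, hA.pi_one]
  refine Prod.ext (mul_one _) ?_
  show B⁻¹ * θ B⁻¹ * (π (0, 1)).2 = (π (0, 1)).2 / t
  rw [map_inv₀, ← mul_inv, ht, div_eq_inv_mul]

/-- The value on a difference of two images of central elements. -/
theorem pi_pair {B C D : F} {b c : F} (hB : B ≠ 0) (hb : B * θ B = b) (hC : C ≠ 0)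
    (hc : C * θ C = c) (hbc : b ≠ c) (hD : D ≠ 0) (hd : D * θ D = b + c) :
    π (mulA θ (invA θ (π (0, b))) (π (0, c))) =
      scalA θ (h (0, b))⁻¹ (mulA θ (invA θ (π (0, b))) (π (0, b + c))) := by
  have hb0 : b ≠ 0 := hb ▸ mul_theta_ne_zero hB
  have hc0 : c ≠ 0 := hc ▸ mul_theta_ne_zero hC
  have hbne : ((0 : F), b) ≠ 0 := fun e => hb0 (congrArg Prod.snd e)
  have hcne : ((0 : F), c) ≠ 0 := fun e => hc0 (congrArg Prod.snd e)
  have hinv : invA θ ((0 : F), b) = (0, b) := by simp [invA]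
  have hprod : mulA θ ((0 : F), b) (0, c) = (0, b + c) := by simp [mulA]
  have hbc0 : b + c ≠ 0 := fun e => hbc (by linear_combination e - two_zero c)
  have key := hA.func (0, b) (π (0, c)) hbne (hA.ne _ hcne)
    (by rw [hA.invol _ hcne, hprod]; exact fun e => hbc0 (congrArg Prod.snd e))
    (by
      rw [hinv]
      intro e
      have e' : π (0, c) = π (0, b) := by
        have := congrArg (mulA θ (π (0, b))) e
        rwa [← mulA_assoc, mulA_invA, zero_mulA, mulA_zero] at this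
      have := congrArg π e'
      rw [hA.invol _ hcne, hA.invol _ hbne] at this
      exact hbc (congrArg Prod.snd this).symm)
  rw [hA.invol _ hcne, hprod, hinv] at key
  rw [key, ← mulA_assoc, invA_mulA, zero_mulA, scalA_scalA, inv_mul_cancel₀ (hA.h_ne _ hbne),
    scalA_one]

/-- The special elements. -/
def special (_hA : Alg θ π h) (s : F) : F × F :=
  (1 + s, (π (0, 1)).2 + 1 + (π (0, 1)).2 * (s * θ s) + θ s)

theorem special_fst_ne {s : F} (hs : s ≠ 1) : (hA.special s).1 ≠ 0 := fun e =>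
  hs (CharTwo.add_eq_zero.1 (e : 1 + s = 0)).symm

theorem special_ne {s : F} (hs : s ≠ 1) : hA.special s ≠ 0 := fun e =>
  hA.special_fst_ne hs (congrArg Prod.fst e)

theorem exists_partner {s : F} (hs : s ≠ 0) (hs1 : s ≠ 1) :
    ∃ e : F, e ≠ 0 ∧ e ≠ 1 ∧ e * θ e * (1 + (s * θ s)⁻¹) = 1 := by
  have hN : s * θ s ≠ 1 := fun e => hs1 (hA.norm_inj s hs e)
  have h1 : 1 + (s * θ s)⁻¹ ≠ 0 := fun e => hN (inv_eq_one.1
    (by linear_combination e - two_zero (1 : F)))
  obtain ⟨e, he, he'⟩ := hA.exists_root (inv_ne_zero h1)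
  refine ⟨e, he, ?_, by rw [he', inv_mul_cancel₀ h1]⟩
  rintro rfl
  rw [map_one, one_mul, eq_comm, inv_eq_one] at he'
  exact inv_ne_zero (mul_theta_ne_zero hs) (by linear_combination he')

/-- The value on the special elements. -/
theorem pi_special {s e : F} (hs : s ≠ 0) (hs1 : s ≠ 1) (he : e ≠ 0)
    (hes : e * θ e * (1 + (s * θ s)⁻¹) = 1) :
    π (hA.special s) = scalA θ (h (0, 1))⁻¹ (hA.special e) := by
  have hc : s⁻¹ * θ s⁻¹ = (s * θ s)⁻¹ := by rw [map_inv₀, mul_inv]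
  have hd : e⁻¹ * θ e⁻¹ = 1 + (s * θ s)⁻¹ := by
    rw [map_inv₀, ← mul_inv]
    exact inv_eq_of_mul_eq_one_right hes
  have hbc : (1 : F) ≠ (s * θ s)⁻¹ := fun e' =>
    hs1 (hA.norm_inj s hs (inv_eq_one.1 e'.symm))
  have key := hA.pi_pair (B := 1) (C := s⁻¹) (D := e⁻¹) (b := 1) (c := (s * θ s)⁻¹) one_ne_zero
    (by rw [map_one, one_mul]) (inv_ne_zero hs) hc hbc (inv_ne_zero he) hd
  rw [hA.pi_central (inv_ne_zero hs) hc, hA.pi_central (inv_ne_zero he) hd, inv_inv, inv_inv,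
    div_inv_eq_mul, hA.pi_one] at key
  have e1 : mulA θ (invA θ (1, (π (0, 1)).2)) (s, (π (0, 1)).2 * (s * θ s)) = hA.special s := by
    refine Prod.ext rfl ?_
    show (π (0, 1)).2 + 1 * θ 1 + (π (0, 1)).2 * (s * θ s) + 1 * θ s = _
    rw [map_one, one_mul, one_mul]
    rfl
  have e2 : mulA θ (invA θ (1, (π (0, 1)).2)) (e, (π (0, 1)).2 / (1 + (s * θ s)⁻¹)) =
      hA.special e := by
    have h3 : (1 + (s * θ s)⁻¹)⁻¹ = e * θ e := inv_eq_of_mul_eq_one_left hes
    refine Prod.ext rfl ?_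
    show (π (0, 1)).2 + 1 * θ 1 + (π (0, 1)).2 / (1 + (s * θ s)⁻¹) + 1 * θ e = _
    rw [map_one, one_mul, one_mul, div_eq_mul_inv, h3]
    rfl
  rw [e1, e2] at key
  exact key

theorem special_inv {s : F} (hs : s ≠ 0) :
    invA θ (hA.special s) = scalA θ s (hA.special s⁻¹) := by
  have hts : θ s ≠ 0 := by simpa using hs
  refine Prod.ext ?_ ?_
  · show 1 + s = s * (1 + s⁻¹)
    rw [mul_add, mul_inv_cancel₀ hs, mul_one, add_comm]
  · show (π (0, 1)).2 + 1 + (π (0, 1)).2 * (s * θ s) + θ s + (1 + s) * θ (1 + s) =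
      s * θ s * ((π (0, 1)).2 + 1 + (π (0, 1)).2 * (s⁻¹ * θ s⁻¹) + θ s⁻¹)
    rw [map_add, map_one, map_inv₀]
    field_simp
    linear_combination two_zero (1 : F) + two_zero (θ s)

/-- The orbit invariant of a special element, shifted. -/
def shift (_hA : Alg θ π h) (s : F) : F :=
  (_hA.special s).2 / ((1 + s) * θ (1 + s)) + (π (0, 1)).2

theorem one_add_ne {s : F} (hs : s ≠ 1) : (1 : F) + s ≠ 0 := hA.special_fst_ne hs

theorem special_eq {s : F} (hs : s ≠ 1) :
    scalA θ (1 + s)⁻¹ (hA.special s) = (1, hA.shift s + (π (0, 1)).2) := by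
  refine Prod.ext (inv_mul_cancel₀ (hA.one_add_ne hs)) ?_
  show (1 + s)⁻¹ * θ (1 + s)⁻¹ * _ = hA.shift s + _
  rw [map_inv₀, ← mul_inv, shift, add_assoc, two_zero, add_zero, div_eq_inv_mul]

theorem shift_inv {s : F} (hs : s ≠ 0) (hs1 : s ≠ 1) :
    hA.shift s⁻¹ = hA.shift s + 1 := by
  have h1 := hA.one_add_ne hs1
  have hs1' : s⁻¹ ≠ 1 := fun e => hs1 (inv_eq_one.1 e)
  have e := congrArg (scalA θ (1 + s)⁻¹) (hA.special_inv hs)
  rw [scalA_invA, hA.special_eq hs1, scalA_scalA] at e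
  have e2 : (1 + s)⁻¹ * s = (1 + s⁻¹)⁻¹ := by
    refine (inv_eq_of_mul_eq_one_left ?_).symm
    field_simp
    ring
  rw [e2, hA.special_eq hs1'] at e
  have e3 : hA.shift s + (π (0, 1)).2 + 1 * θ 1 = hA.shift s⁻¹ + (π (0, 1)).2 := congrArg Prod.snd e
  rw [map_one, one_mul] at e3
  linear_combination -e3

/-- Special elements avoid the orbit of the image of the central element. -/
theorem shift_ne {s : F} (hs : s ≠ 0) (hs1 : s ≠ 1) : hA.shift s ≠ 0 := by
  intro h0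
  obtain ⟨e, he, he1, hes⟩ := hA.exists_partner hs hs1
  have h1 := inv_ne_zero (hA.one_add_ne hs1)
  have e1 : π (scalA θ (1 + s)⁻¹ (hA.special s)) = (0, 1) := by
    rw [hA.special_eq hs1, h0, zero_add, ← hA.pi_one, hA.invol _ hA.zero_one_ne]
  rw [hA.scal _ _ h1 (hA.special_ne hs1), hA.pi_special hs hs1 he hes, scalA_scalA] at e1
  have : (1 + s)⁻¹⁻¹ * (h (0, 1))⁻¹ * (hA.special e).1 = 0 := congrArg Prod.fst e1
  exact mul_ne_zero (mul_ne_zero (inv_ne_zero h1) (inv_ne_zero hA.h_one_ne))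
    (hA.special_fst_ne he1) this

/-- The basic identity. -/
theorem identity {s e B : F} (hs : s ≠ 0) (hs1 : s ≠ 1) (he : e ≠ 0)
    (hes : e * θ e * (1 + (s * θ s)⁻¹) = 1) (hB : B * θ B = hA.shift s) :
    (h (0, 1))⁻¹ * B * (1 + s) * (1 + e) * s ^ 2 = s + e + s * e := by
  have hb0 := hA.shift_ne hs hs1
  have hB0 : B ≠ 0 := fun h0 => hb0 (by rw [← hB, h0, zero_mul])
  have hν := hA.h_one_ne
  have hone := hA.one_add_ne hs1
  have hbne : ((0 : F), hA.shift s) ≠ 0 := fun e' => hb0 (congrArg Prod.snd e')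
  have hL : mulA θ ((0 : F), 1) (π (0, hA.shift s)) =
      scalA θ (B⁻¹ * (1 + s)⁻¹) (hA.special s) := by
    rw [← scalA_scalA, hA.special_eq hs1, hA.pi_central hB0 hB]
    refine Prod.ext (by show 0 + B⁻¹ = B⁻¹ * 1; ring) ?_
    show 1 + (π (0, 1)).2 / hA.shift s + 0 * θ B⁻¹ =
      B⁻¹ * θ B⁻¹ * (hA.shift s + (π (0, 1)).2)
    rw [map_inv₀, ← mul_inv, hB, zero_mul, add_zero]
    field_simp
  have hR : mulA θ (invA θ (π (0, 1))) (0, hA.shift s) =
      scalA θ (s * (1 + s)⁻¹) (hA.special s⁻¹) := by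
    rw [mul_comm, ← scalA_scalA, ← hA.special_inv hs, scalA_invA, hA.special_eq hs1, hA.pi_one]
    refine Prod.ext (add_zero 1) ?_
    show (π (0, 1)).2 + 1 * θ 1 + hA.shift s + 1 * θ 0 = hA.shift s + (π (0, 1)).2 + 1 * θ 1
    rw [map_zero, mul_zero, add_zero]
    ring
  have hinv : invA θ ((0 : F), (1 : F)) = (0, 1) := by simp [invA]
  have hs1' : s⁻¹ ≠ 1 := fun e' => hs1 (inv_eq_one.1 e')
  have hk : s * (1 + s)⁻¹ ≠ 0 := mul_ne_zero hs (inv_ne_zero hone)
  have hk' : B⁻¹ * (1 + s)⁻¹ ≠ 0 := mul_ne_zero (inv_ne_zero hB0) (inv_ne_zero hone)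
  have key := hA.func (0, 1) (0, hA.shift s) hA.zero_one_ne hbne
    (by rw [hL]; exact scalA_ne_zero hk' (hA.special_ne hs1))
    (by rw [hinv, hR]; exact scalA_ne_zero hk (hA.special_ne hs1'))
  rw [hinv, hL, hR, hA.scal _ _ hk' (hA.special_ne hs1), hA.pi_special hs hs1 he hes,
    hA.scal _ _ hk (hA.special_ne hs1')] at key
  have hes' : e / s * θ (e / s) * (1 + (s⁻¹ * θ s⁻¹)⁻¹) = 1 := by
    have hts : θ s ≠ 0 := by simpa using hs
    rw [map_div₀, map_inv₀]
    field_simp at hes ⊢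
    linear_combination hes
  rw [hA.pi_special (inv_ne_zero hs) hs1' (div_ne_zero he hs) hes', scalA_scalA, scalA_scalA,
    scalA_scalA, hA.pi_one] at key
  have k1 : (B⁻¹ * (1 + s)⁻¹)⁻¹ * (h (0, 1))⁻¹ * (1 + e) =
      1 + h (0, 1) * ((s * (1 + s)⁻¹)⁻¹ * (h (0, 1))⁻¹) * (1 + e / s) := by
    have := congrArg Prod.fst key
    simp only [mulA, scalA, special] at this
    linear_combination this
  generalize h (0, 1) = ν at k1 hν
  field_simp at k1
  field_simp
  linear_combination (norm := (ring_nf; simp [CharTwo.ofNat_eq_mod])) k1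

/-- The two identities at `s` and `s⁻¹` eliminate the partner. -/
theorem eliminated {s B B' : F} (hs : s ≠ 0) (hs1 : s ≠ 1) (hB : B * θ B = hA.shift s)
    (hB' : B' * θ B' = hA.shift s + 1) :
    B * s ^ 2 + B' = (h (0, 1))⁻¹ * B * B' * (1 + s) ^ 2 := by
  obtain ⟨e, he, -, hes⟩ := hA.exists_partner hs hs1
  have i1 := hA.identity hs hs1 he hes hB
  have hs1' : s⁻¹ ≠ 1 := fun e' => hs1 (inv_eq_one.1 e')
  have hts : θ s ≠ 0 := by simpa using hs
  have i2 := hA.identity (s := s⁻¹) (e := e / s) (B := B') (inv_ne_zero hs) hs1' (div_ne_zero he hs)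
    (by rw [map_div₀, map_inv₀]; field_simp at hes ⊢; linear_combination hes)
    (by rw [hB', hA.shift_inv hs hs1])
  have hν : (h (0, 1))⁻¹ ≠ 0 := inv_ne_zero hA.h_one_ne
  have hone := hA.one_add_ne hs1
  generalize (h (0, 1))⁻¹ = μ at i1 i2 hν ⊢
  have j2 : μ * B' * (1 + s) * (s + e) = s ^ 2 * (s + e + s * e) := by
    field_simp at i2
    linear_combination i2
  have P : ((μ * B * s ^ 2 + 1) * (s ^ 2 + μ * B' * (1 + s)) -
      (μ * B' + s ^ 2) * (1 + μ * B * s * (1 + s))) * ((1 + s) * s) = 0 := by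
    linear_combination (norm := (ring_nf; simp [CharTwo.ofNat_eq_mod]))
      (((1 + s) * (μ * B' + s ^ 2))) * i1 - ((1 + s) * (μ * B * s ^ 2 + 1)) * j2
  rcases mul_eq_zero.1 P with P' | P'
  · have : μ * s * (B * s ^ 2 + B' + μ * B * B' * (1 + s) ^ 2) = 0 := by
      linear_combination (norm := (ring_nf; simp [CharTwo.ofNat_eq_mod])) P'
    rcases mul_eq_zero.1 this with h' | h'
    · exact absurd h' (mul_ne_zero hν hs)
    · exact CharTwo.add_eq_zero.1 h'
  · exact absurd P' (mul_ne_zero hone hs)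

/-- The twist fixes only the prime field. -/
theorem fixed_eq {s : F} (hs : θ s = s) : s = 0 ∨ s = 1 := by
  by_contra hc
  push Not at hc
  obtain ⟨hs0, hs1⟩ := hc
  have hone := hA.one_add_ne hs1
  have hes : s / (1 + s) * θ (s / (1 + s)) * (1 + (s * θ s)⁻¹) = 1 := by
    rw [map_div₀, map_add, map_one, hs]
    field_simp
    linear_combination (norm := (ring_nf; simp [CharTwo.ofNat_eq_mod]))
  obtain ⟨B, hB0, hB⟩ := hA.exists_root (hA.shift_ne hs0 hs1)
  have i1 := hA.identity hs0 hs1 (div_ne_zero hs0 hone) hes hB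
  have : s + s / (1 + s) + s * (s / (1 + s)) = 0 := by
    field_simp
    linear_combination two_zero (s + s * s)
  rw [this] at i1
  have h1 : (1 : F) + s / (1 + s) ≠ 0 := by
    intro h'
    field_simp at h'
    exact one_ne_zero (show (1 : F) = 0 by linear_combination h' - two_zero s)
  exact mul_ne_zero (mul_ne_zero (mul_ne_zero (mul_ne_zero (inv_ne_zero hA.h_one_ne) hB0) hone) h1)
    (pow_ne_zero 2 hs0) i1

theorem beta_cases : (π (0, 1)).2 = 0 ∨ (π (0, 1)).2 = 1 := by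
  by_contra hc
  push Not at hc
  obtain ⟨h0, h1⟩ := hc
  have hb1 : (1 : F) + (π (0, 1)).2 ≠ 0 := fun e => h1 (CharTwo.add_eq_zero.1 e).symm
  let f : {x : F // x ≠ 0} → {x : F // x ≠ 0} := fun x =>
    ⟨θ x.1 / x.1, div_ne_zero (by simpa using x.2) x.2⟩
  have hf : Function.Injective f := by
    intro x y e
    have e' : θ x.1 / x.1 = θ y.1 / y.1 := congrArg Subtype.val e
    have hfix : θ (x.1 / y.1) = x.1 / y.1 := by
      rw [map_div₀]
      have := x.2
      have := y.2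
      have hy : θ y.1 ≠ 0 := by simpa using y.2
      field_simp at e' ⊢
      linear_combination e'
    rcases hA.fixed_eq hfix with h' | h'
    · exact absurd h' (div_ne_zero x.2 y.2)
    · exact Subtype.ext ((div_eq_one_iff_eq y.2).1 h')
  obtain ⟨⟨a, ha⟩, hfa⟩ :=
    Finite.surjective_of_injective hf ⟨(π (0, 1)).2 / (1 + (π (0, 1)).2), div_ne_zero h0 hb1⟩
  have hfa' : θ a / a = (π (0, 1)).2 / (1 + (π (0, 1)).2) := congrArg Subtype.val hfa
  have hs1 : 1 + a ≠ 1 := fun e => ha (by linear_combination e)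
  have hs0 : 1 + a ≠ 0 := fun e => by
    have ha1 : a = 1 := (CharTwo.add_eq_zero.1 e).symm
    rw [ha1, map_one, div_one, eq_comm, div_eq_one_iff_eq hb1] at hfa'
    exact one_ne_zero (show (1 : F) = 0 by linear_combination -hfa')
  apply hA.shift_ne hs0 hs1
  have e1 : (1 : F) + (1 + a) = a := by linear_combination two_zero (1 : F)
  have hta : θ a ≠ 0 := by simpa using ha
  show (hA.special (1 + a)).2 / ((1 + (1 + a)) * θ (1 + (1 + a))) + (π (0, 1)).2 = 0
  rw [e1]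
  show ((π (0, 1)).2 + 1 + (π (0, 1)).2 * ((1 + a) * θ (1 + a)) + θ (1 + a)) / (a * θ a) + _ = 0
  rw [map_add, map_one]
  field_simp at hfa' ⊢
  linear_combination hfa' + two_zero ((π (0, 1)).2) + two_zero (1 : F) +
    two_zero ((π (0, 1)).2 * (a * θ a)) + two_zero ((π (0, 1)).2 * a)

end Alg

end CfsgLib.ZTUnique
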