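import Mathlib
import Cfsg.Agent.Lib.SuzukiTwo.TypeA

/-!
Equivariant coordinates on a Suzuki 2-group of order `q ^ 2`.
-/

set_option autoImplicit false
set_option linter.style.haveILetI false

open scoped commutatorElement

namespace CfsgLib.ZTUnique

open CfsgLib.SuzukiTwo

/-- A set map measuring a central extension against the twisted product. -/
theorem exists_height {P F : Type*} [Group P] [Field F] [CharP F 2] (θ : F ≃+* F) (π : P → F)
    (hπ : ∀ g h, π (g * h) = π g + π h) (Z : F → P) (hZ0 : ∀ z z', Z (z + z') = Z z * Z z')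
    (hZc : ∀ z g, g * Z z = Z z * g) (hZπ : ∀ z, π (Z z) = 0) (hZinj : Function.Injective Z)
    (hsq : ∀ g, g * g = Z (π g * θ (π g))) :
    ∃ ε : P → F, (∀ g h, ε (g * h) = ε g + ε h + π h * θ (π g)) ∧ ∀ z, ε (Z z) = z := by
  classical
  have h2 : ∀ a : F, a + a = 0 := CharTwo.add_self_eq_zero
  have hπ1 : π 1 = 0 := by
    have := hπ 1 1
    rw [one_mul] at this
    exact add_eq_left.1 this.symm
  have hπinv : ∀ g, π g⁻¹ = π g := fun g => by
    have := hπ g g⁻¹
    rw [mul_inv_cancel, hπ1] at this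
    exact (eq_neg_of_add_eq_zero_right this.symm).trans (CharTwo.neg_eq _)
  have hZ1 : Z 0 = 1 := by
    have := hZ0 0 0
    rw [add_zero] at this
    exact mul_eq_left.1 this.symm
  let T : Subgroup (P × GL (Fin 3) F) :=
    { carrier := {p | ∃ z, p.2 = typeAElt θ (π p.1) z}
      one_mem' := ⟨0, by rw [Prod.fst_one, hπ1, typeAElt_zero]; rfl⟩
      mul_mem' := by
        rintro p q ⟨z, hz⟩ ⟨w, hw⟩
        exact ⟨_, by rw [Prod.snd_mul, hz, hw, typeAElt_mul, Prod.fst_mul, hπ]⟩
      inv_mem' := by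
        rintro p ⟨z, hz⟩
        refine ⟨z + θ (π p.1) * π p.1, ?_⟩
        rw [Prod.snd_inv, hz, Prod.fst_inv, hπinv]
        refine inv_eq_of_mul_eq_one_right ?_
        rw [typeAElt_mul, ← typeAElt_zero θ]
        congr 1
        · exact h2 _
        · linear_combination h2 z + h2 (θ (π p.1) * π p.1) }
  have hmk : ∀ g z, (g, typeAElt θ (π g) z) ∈ T := fun g z => ⟨z, rfl⟩
  let el : P → F → ↥T := fun g z => ⟨(g, typeAElt θ (π g) z), hmk g z⟩
  have hel : ∀ g z h w, el g z * el h w = el (g * h) (z + θ (π g) * π h + w) := fun g z h w =>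
    Subtype.ext (Prod.ext rfl (by
      show typeAElt θ (π g) z * typeAElt θ (π h) w = typeAElt θ (π (g * h)) _
      rw [typeAElt_mul, hπ]))
  have hsurj : ∀ p : ↥T, ∃ g z, p = el g z := by
    rintro ⟨⟨g, m⟩, z, hz⟩
    exact ⟨g, z, Subtype.ext (Prod.ext rfl hz)⟩
  have helc : ∀ v g z, el g z * el (Z v) v = el (Z v) v * el g z := fun v g z => by
    rw [hel, hel, hZc, hZπ, map_zero, mul_zero, zero_mul, add_zero, add_zero, add_comm v z]
  let D : ↥T → Prop := fun p => ∃ v, p = el (Z v) v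
  let Ds : Subgroup ↥T :=
    { carrier := {p | D p}
      one_mem' := ⟨0, Subtype.ext (Prod.ext hZ1.symm (by
        show (1 : GL (Fin 3) F) = typeAElt θ (π (Z 0)) 0
        rw [hZπ, typeAElt_zero]))⟩
      mul_mem' := by
        rintro _ _ ⟨v, rfl⟩ ⟨w, rfl⟩
        exact ⟨v + w, by rw [hel, hZπ, map_zero, zero_mul, add_zero, hZ0]⟩
      inv_mem' := by
        rintro _ ⟨v, rfl⟩
        refine ⟨v, inv_eq_of_mul_eq_one_right ?_⟩
        rw [hel, hZπ, map_zero, zero_mul, add_zero, ← hZ0, h2]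
        exact Subtype.ext (Prod.ext hZ1 (by
          show typeAElt θ (π (Z 0)) 0 = 1
          rw [hZπ, typeAElt_zero])) }
  haveI hDn : Ds.Normal := ⟨by
    rintro _ ⟨v, rfl⟩ p
    obtain ⟨g, z, rfl⟩ := hsurj p
    exact ⟨v, by rw [helc, mul_inv_cancel_right]⟩⟩
  have hexp : ∀ x : ↥T ⧸ Ds, x * x = 1 := by
    intro x
    induction x using QuotientGroup.induction_on with
    | _ p =>
      obtain ⟨g, z, rfl⟩ := hsurj p
      refine (QuotientGroup.eq_one_iff _).2 ⟨π g * θ (π g), ?_⟩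
      show el g z * el g z = el _ _
      rw [hel, hsq]
      congr 1
      linear_combination h2 z
  letI : CommGroup (↥T ⧸ Ds) := { (inferInstance : Group (↥T ⧸ Ds)) with
    mul_comm := fun x y => by
      calc x * y = x⁻¹ * y⁻¹ := by
            rw [inv_eq_of_mul_eq_one_right (hexp x), inv_eq_of_mul_eq_one_right (hexp y)]
        _ = (y * x)⁻¹ := by rw [mul_inv_rev]
        _ = y * x := inv_eq_of_mul_eq_one_right (hexp _) }
  haveI : Fact (Nat.Prime 2) := ⟨Nat.prime_two⟩
  letI : Module (ZMod 2) (Additive (↥T ⧸ Ds)) := AddCommGroup.zmodModule (fun x => by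
    rw [two_nsmul]; exact congrArg Additive.ofMul (hexp x.toMul))
  letI : Module (ZMod 2) F := (ZMod.algebra F 2).toModule
  let i₀ : F →+ Additive (↥T ⧸ Ds) := AddMonoidHom.mk'
    (fun z => Additive.ofMul (QuotientGroup.mk (el 1 z))) (fun z w => by
      refine congrArg Additive.ofMul (congrArg QuotientGroup.mk ?_)
      show el 1 (z + w) = el 1 z * el 1 w
      rw [hel, one_mul, hπ1, map_zero, zero_mul, add_zero])
  have hi : Function.Injective (i₀.toZModLinearMap 2) := by
    refine (injective_iff_map_eq_zero _).2 fun z hz => ?_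
    have hm : el 1 z ∈ Ds := (QuotientGroup.eq_one_iff _).1 hz
    obtain ⟨v, hv⟩ := hm
    have h1 : (1 : P) = Z v := congrArg (fun p : ↥T => p.1.1) hv
    have hv0 : v = 0 := hZinj (h1.symm.trans hZ1.symm)
    subst hv0
    have h2' : typeAElt θ (π 1) z = typeAElt θ (π (Z 0)) 0 := congrArg (fun p : ↥T => p.1.2) hv
    exact (typeAMat_inj θ (congrArg Units.val h2')).2
  obtain ⟨χ, hχ⟩ := (i₀.toZModLinearMap 2).exists_leftInverse_of_injective (LinearMap.ker_eq_bot.2 hi)
  let X : ↥T → F := fun p => χ (Additive.ofMul (QuotientGroup.mk p))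
  have hX : ∀ p q, X (p * q) = X p + X q := fun p q => by
    show χ _ = _
    rw [QuotientGroup.mk_mul, ofMul_mul, map_add]
  have hX1 : ∀ z, X (el 1 z) = z := fun z => LinearMap.congr_fun hχ z
  have hXD : ∀ v, X (el (Z v) v) = 0 := fun v => by
    show χ _ = 0
    rw [(QuotientGroup.eq_one_iff _).2 (⟨v, rfl⟩ : el (Z v) v ∈ Ds), ofMul_one, map_zero]
  refine ⟨fun g => X (el g 0), fun g h => ?_, fun z => ?_⟩
  · have e : el g 0 * el h 0 = el (g * h) 0 * el 1 (θ (π g) * π h) := by
      rw [hel, hel]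
      simp only [hπ1, mul_one, mul_zero, zero_add, add_zero]
    have := congrArg X e
    rw [hX, hX, hX1] at this
    linear_combination -this - h2 (π h * θ (π g))
  · have e : el (Z z) 0 * el 1 z = el (Z z) z := by
      rw [hel, mul_one, hπ1, mul_zero, zero_add, zero_add]
    have := congrArg X e
    rw [hX, hX1, hXD] at this
    linear_combination this - h2 z

/-- Equivariant coordinates. -/
theorem exists_coords {P : Type*} [Group P] {K : Subgroup (MulAut P)} (hR : RegularInv K)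
    (hna : ∃ x y : P, x * y ≠ y * x)
    (hcard : Nat.card P = Nat.card (Subgroup.center P) ^ 2) :
    ∃ (F : Type) (_ : Field F) (_ : Fintype F) (θ : F ≃+* F) (κ : P → F × F),
      CharP F 2 ∧ Fintype.card F = Nat.card (Subgroup.center P) ∧ Function.Bijective κ ∧
      (∀ g h, κ (g * h) =
        ((κ g).1 + (κ h).1, (κ g).2 + (κ h).2 + (κ h).1 * θ (κ g).1)) ∧
      ∀ k : K, ∃ a : F, a ≠ 0 ∧
        ∀ g, κ ((k : MulAut P) g) = (a * (κ g).1, a * θ a * (κ g).2) := by
  classical
  haveI := hR.fin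
  set W := omegaCenter P with hW
  have hZW : Subgroup.center P = W :=
    le_antisymm (fun z hz => ⟨hz, center_sq_eq_one hR hna hz⟩) (fun z hz => hz.1)
  rw [hZW] at hcard ⊢
  haveI hWn : W.Normal := hZW ▸ inferInstance
  obtain ⟨e₀, he₀, he₀1⟩ := exists_omega_ne_one hR
  have hWcard : 2 ≤ Nat.card W := by
    rw [Nat.succ_le_iff, Finite.one_lt_card_iff_nontrivial]
    exact ⟨⟨⟨e₀, he₀⟩, 1, fun h => he₀1 (congrArg Subtype.val h)⟩⟩
  have hVcard : Nat.card (P ⧸ W) = Nat.card W := by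
    have := Subgroup.card_eq_card_quotient_mul_card_subgroup W
    rw [hcard, sq] at this
    exact (Nat.eq_of_mul_eq_mul_right (by omega) this).symm
  have hle : ∀ k : K, W ≤ W.comap (k : MulAut P).toMonoidHom := fun k x hx =>
    kInv_omegaCenter _ k.2 x hx
  let act : K → P ⧸ W →* P ⧸ W := fun k => QuotientGroup.map W W (k : MulAut P).toMonoidHom (hle k)
  have hact : ∀ (k : K) (g : P), act k (QuotientGroup.mk g) = QuotientGroup.mk ((k : MulAut P) g) :=
    fun k g => rfl
  let ι : K →* MulAut (P ⧸ W) :=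
    { toFun := fun k =>
        { toFun := act k
          invFun := act k⁻¹
          left_inv := fun v => by
            induction v using QuotientGroup.induction_on with
            | _ g => exact congrArg _ ((k : MulAut P).symm_apply_apply g)
          right_inv := fun v => by
            induction v using QuotientGroup.induction_on with
            | _ g => exact congrArg _ ((k : MulAut P).apply_symm_apply g)
          map_mul' := map_mul (act k) }
      map_one' := MulEquiv.ext fun v => by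
        induction v using QuotientGroup.induction_on with
        | _ g => rfl
      map_mul' := fun k l => MulEquiv.ext fun v => by
        induction v using QuotientGroup.induction_on with
        | _ g => rfl }
  -- no nontrivial element of `K` fixes a nontrivial coset
  have hfree : ∀ k : K, k ≠ 1 → ∀ v : P ⧸ W, ι k v = v → v = 1 := by
    intro k hk v hv
    induction v using QuotientGroup.induction_on with
    | _ g =>
      have hk1 : (k : MulAut P) ≠ 1 := fun h => hk (Subtype.ext h)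
      have hmem : g⁻¹ * (k : MulAut P) g ∈ W := (QuotientGroup.eq).1 hv.symm
      let φ : W → W := fun x => ⟨(x : P) * ((k : MulAut P) x)⁻¹,
        W.mul_mem x.2 (W.inv_mem (kInv_omegaCenter _ k.2 x x.2))⟩
      have hinj : Function.Injective φ := by
        intro x x' he
        have he' : (x : P) * ((k : MulAut P) x)⁻¹ = x' * ((k : MulAut P) x')⁻¹ :=
          congrArg Subtype.val he
        have hfix : (k : MulAut P) ((x' : P)⁻¹ * x) = (x' : P)⁻¹ * x := by
          rw [map_mul, map_inv]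
          calc ((k : MulAut P) x')⁻¹ * (k : MulAut P) x
              = (x' : P)⁻¹ * ((x' : P) * ((k : MulAut P) x')⁻¹) * (k : MulAut P) x := by group
            _ = (x' : P)⁻¹ * x := by rw [← he']; group
        exact Subtype.ext (inv_mul_eq_one.1 (fixedPointFree hR k.2 hk1 hfix)).symm
      obtain ⟨⟨x, hx⟩, hxe⟩ := (Finite.injective_iff_surjective.1 hinj) ⟨_, hmem⟩
      have hxe' : x * ((k : MulAut P) x)⁻¹ = g⁻¹ * (k : MulAut P) g := congrArg Subtype.val hxe
      have hfix : (k : MulAut P) (g * x) = g * x := by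
        rw [map_mul]
        calc (k : MulAut P) g * (k : MulAut P) x
            = g * (g⁻¹ * (k : MulAut P) g) * (k : MulAut P) x := by group
          _ = g * x := by rw [← hxe']; group
      refine (QuotientGroup.eq_one_iff g).2 ?_
      rw [eq_inv_of_mul_eq_one_left (fixedPointFree hR k.2 hk1 hfix)]
      exact W.inv_mem hx
  have htr : ∀ v₀ : P ⧸ W, v₀ ≠ 1 → ∀ v : P ⧸ W, v ≠ 1 → ∃ k : K, ι k v₀ = v := by
    intro v₀ hv₀ v hv
    let f : K → {v : P ⧸ W // v ≠ 1} := fun k =>
      ⟨ι k v₀, fun h => hv₀ ((ι k).injective (h.trans (map_one _).symm))⟩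
    have hinj : Function.Injective f := fun k l h => by
      by_contra hne
      refine hv₀ (hfree (l⁻¹ * k) (fun h' => hne (inv_mul_eq_one.1 h').symm) v₀ ?_)
      have h' : ι k v₀ = ι l v₀ := congrArg Subtype.val h
      rw [map_mul, MulAut.mul_apply, h', ← MulAut.mul_apply, ← map_mul, inv_mul_cancel, map_one]
      rfl
    have hsurj : Function.Surjective f := by
      refine (hinj.bijective_of_nat_card_le ?_).2
      haveI := Fintype.ofFinite (P ⧸ W)
      rw [Nat.card_eq_fintype_card, Fintype.card_subtype_compl, Fintype.card_subtype_eq,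
        ← Nat.card_eq_fintype_card, hVcard, ← card_K hR]
      omega
    obtain ⟨k, hk⟩ := hsurj ⟨v, hv⟩
    exact ⟨k, congrArg Subtype.val hk⟩
  haveI : Fact (Nat.Prime 2) := ⟨Nat.prime_two⟩
  obtain ⟨v₁, hv₁⟩ : ∃ v : P ⧸ W, orderOf v = 2 := by
    refine exists_prime_orderOf_dvd_card' 2 ?_
    obtain ⟨n, hn⟩ := IsPGroup.iff_card.1 (hR.isPGroup.to_quotient W)
    rw [hn] at hVcard ⊢
    exact dvd_pow_self 2 (fun h => by rw [h, pow_zero] at hVcard; omega)
  have hv₁1 : v₁ ≠ 1 := fun h => by rw [h, orderOf_one] at hv₁; omega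
  have hV2 : ∀ v : P ⧸ W, v * v = 1 := by
    intro v
    by_cases hv : v = 1
    · rw [hv, one_mul]
    obtain ⟨k, rfl⟩ := htr v₁ hv₁1 v hv
    rw [← map_mul, show v₁ * v₁ = 1 by rw [← sq, ← hv₁]; exact pow_orderOf_eq_one v₁, map_one]
  have hsqW : ∀ g : P, g * g ∈ W := fun g => (QuotientGroup.eq_one_iff _).1 (hV2 (QuotientGroup.mk g))
  have hιc : ∀ (k l : K) (v : P ⧸ W), ι k (ι l v) = ι l (ι k v) := fun k l v => by
    induction v using QuotientGroup.induction_on with
    | _ g => exact congrArg QuotientGroup.mk (K_comm hR k.2 l.2 g)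
  obtain ⟨F, _, _, ψV, hchar, hFcard, hψV1, hψV⟩ :=
    exists_field_regular hV2 ι hιc hv₁1 (htr v₁ hv₁1)
  obtain ⟨g₁, rfl⟩ := QuotientGroup.mk_surjective v₁
  have he1 : g₁ * g₁ ≠ 1 := fun h => hv₁1 ((QuotientGroup.eq_one_iff g₁).2 (mem_omega_of_sq hR h))
  obtain ⟨F', _, _, ψZ', hchar', hF'card, hψZ'1, hψZ'⟩ :=
    exists_field_regular (E := W) (fun x => Subtype.ext x.2.2) (omegaAct K)
      (fun k l x => Subtype.ext (K_comm hR k.2 l.2 x)) (e := ⟨g₁ * g₁, hsqW g₁⟩)
      (fun h => he1 (congrArg Subtype.val h))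
      (fun x hx => by
        obtain ⟨k, hk, -⟩ := hR.reg (g₁ * g₁) x he1 (hsqW g₁).2 (fun h => hx (Subtype.ext h)) x.2.2
        exact ⟨k, Subtype.ext hk⟩)
  let i := FiniteField.ringEquivOfCardEq (K := F) (K' := F') (by rw [hFcard, hF'card, hVcard])
  let ψZ : Multiplicative F ≃* W := (AddEquiv.toMultiplicative i.toAddEquiv).trans ψZ'
  have hψZ : ∀ k : K, ∃ b : F, ∀ x : F,
      omegaAct K k (ψZ (Multiplicative.ofAdd x)) = ψZ (Multiplicative.ofAdd (b * x)) := by
    intro k
    obtain ⟨b, -, hb⟩ := hψZ' k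
    refine ⟨i.symm b, fun x => ?_⟩
    show omegaAct K k (ψZ' (Multiplicative.ofAdd (i x))) = ψZ' (Multiplicative.ofAdd (i (i.symm b * x)))
    rw [hb, map_mul i, RingEquiv.apply_symm_apply]
  have hψZ1 : (ψZ (Multiplicative.ofAdd (1 : F)) : P) = g₁ * g₁ := by
    show (ψZ' (Multiplicative.ofAdd (i 1)) : P) = _
    rw [map_one i, hψZ'1]
  have hwd : ∀ g g' : P, (QuotientGroup.mk g : P ⧸ W) = QuotientGroup.mk g' → g * g = g' * g' := by
    intro g g' h
    have hz : g⁻¹ * g' ∈ W := QuotientGroup.eq.1 h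
    have hg : g' = g * (g⁻¹ * g') := by group
    set z := g⁻¹ * g'
    rw [hg]
    calc g * g = g * g * (z * z) := by rw [hz.2, mul_one]
      _ = g * (g * z) * z := by group
      _ = g * (z * g) * z := by rw [Subgroup.mem_center_iff.1 hz.1 g]
      _ = g * z * (g * z) := by group
  let X : F → P := fun x => (ψV (Multiplicative.ofAdd x)).out
  have hX : ∀ x, (QuotientGroup.mk (X x) : P ⧸ W) = ψV (Multiplicative.ofAdd x) := fun x =>
    QuotientGroup.out_eq' _
  let r₀ : F → F := fun x => Multiplicative.toAdd (ψZ.symm ⟨X x * X x, hsqW _⟩)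
  have hr₀ : ∀ (g : P) (x : F), (QuotientGroup.mk g : P ⧸ W) = ψV (Multiplicative.ofAdd x) →
      (ψZ (Multiplicative.ofAdd (r₀ x)) : P) = g * g := by
    intro g x h
    simp only [r₀, ofAdd_toAdd, MulEquiv.apply_symm_apply]
    exact hwd _ _ ((hX x).trans h.symm)
  have hψZinj : ∀ {u v : F}, (ψZ (Multiplicative.ofAdd u) : P) = ψZ (Multiplicative.ofAdd v) → u = v :=
    fun h => Multiplicative.ofAdd.injective (ψZ.injective (Subtype.ext h))
  have hr1 : r₀ 1 = 1 := hψZinj (by rw [hr₀ g₁ 1 hψV1.symm, hψZ1])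
  have hr0 : r₀ 0 = 0 := hψZinj (by
    rw [hr₀ 1 0 (by rw [ofAdd_zero, map_one]; rfl), one_mul, ofAdd_zero, map_one]; rfl)
  have hrmul : ∀ a x, r₀ (a * x) = r₀ a * r₀ x := by
    intro a x
    by_cases ha : a = 0
    · rw [ha, zero_mul, hr0, zero_mul]
    obtain ⟨k, hk⟩ := htr _ hv₁1 (ψV (Multiplicative.ofAdd a)) (fun h => ha
      (Multiplicative.ofAdd.injective (ψV.injective (h.trans (map_one ψV).symm))))
    obtain ⟨a', -, ha'⟩ := hψV k
    have haa : a' = a := by
      have h1 := ha' 1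
      rw [mul_one, hψV1, hk] at h1
      exact (Multiplicative.ofAdd.injective (ψV.injective h1)).symm
    subst haa
    obtain ⟨b, hb⟩ := hψZ k
    have key : ∀ x, r₀ (a' * x) = b * r₀ x := fun x => hψZinj (by
      rw [hr₀ ((k : MulAut P) (X x)) _ (by rw [← ha', ← hX]; rfl), ← map_mul, ← hb,
        ← hr₀ (X x) x (hX x)]
      rfl)
    rw [key x]
    congr 1
    have := key 1
    rwa [mul_one, hr1, mul_one, eq_comm] at this
  let r : F →* F := { toFun := r₀, map_one' := hr1, map_mul' := hrmul }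
  -- the polarisation is the commutator
  have hcW : ∀ g h : P, ⁅g, h⁆ ∈ W := fun g h => by
    rw [commutatorElement_eq_sq_prod]
    refine W.mul_mem (W.mul_mem (hsqW _) ?_) (hsqW _)
    simpa using hWn.conj_mem _ (hsqW g⁻¹) h⁻¹
  let c : F → F → F := fun x y => Multiplicative.toAdd (ψZ.symm ⟨⁅X y, X x⁆, hcW _ _⟩)
  have hc : ∀ x y, (ψZ (Multiplicative.ofAdd (c x y)) : P) = ⁅X y, X x⁆ := fun x y => by
    simp [c]
  have hpolar : ∀ x y, r₀ (x + y) = c x y + r₀ x + r₀ y := fun x y => hψZinj (by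
    rw [hr₀ (X x * X y) _ (by rw [QuotientGroup.mk_mul, hX, hX, ofAdd_add, map_mul]), ofAdd_add,
      ofAdd_add, map_mul, map_mul, Subgroup.coe_mul, Subgroup.coe_mul, hc, hr₀ (X x) x (hX x),
      hr₀ (X y) y (hX y)]
    calc X x * X y * (X x * X y) = X x * ⁅X y, X x⁆ * (X x)⁻¹ * (X x * X x) * (X y * X y) := by
          rw [commutatorElement_def]; group
      _ = _ := by rw [omega_conj (hcW _ _)])
  have hcl : ∀ g g' h : P, ⁅g * g', h⁆ = ⁅g, h⁆ * ⁅g', h⁆ := fun g g' h => by
    calc ⁅g * g', h⁆ = (g * ⁅g', h⁆ * g⁻¹) * ⁅g, h⁆ := by simp only [commutatorElement_def]; group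
      _ = ⁅g', h⁆ * ⁅g, h⁆ := by rw [omega_conj (hcW _ _)]
      _ = _ := (Subgroup.mem_center_iff.1 (hcW g' h).1 _).symm
  have hcadd : ∀ x y z, c x (y + z) = c x y + c x z := fun x y z => hψZinj (by
    rw [hc, ofAdd_add, map_mul, Subgroup.coe_mul, hc, hc, ← hcl]
    have hmem : (X y * X z)⁻¹ * X (y + z) ∈ W := QuotientGroup.eq.1 (by
      rw [QuotientGroup.mk_mul, hX, hX, hX, ofAdd_add, map_mul])
    set w := (X y * X z)⁻¹ * X (y + z) with hw
    have e : X (y + z) = X y * X z * w := by rw [hw]; group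
    rw [e, hcl, show ⁅w, X x⁆ = 1 from commutatorElement_eq_one_iff_mul_comm.2
      (Subgroup.mem_center_iff.1 hmem.1 _).symm, mul_one])
  have h2 : ∀ a : F, a + a = 0 := CharTwo.add_self_eq_zero
  have hq : ∀ x y z : F,
      r (x + y + z) + r (x + y) + r (x + z) + r (y + z) + r x + r y + r z = 0 := by
    intro x y z
    show r₀ (x + y + z) + r₀ (x + y) + r₀ (x + z) + r₀ (y + z) + r₀ x + r₀ y + r₀ z = 0
    have e1 := hpolar x (y + z)
    rw [hcadd, ← add_assoc x y z] at e1
    have e2 := hpolar x y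
    have e3 := hpolar x z
    linear_combination e1 + e2 + e3 + h2 (c x y) + h2 (c x z) + h2 (r₀ (y + z)) + h2 (r₀ x) +
      h2 (r₀ x) + h2 (r₀ y) + h2 (r₀ z)
  obtain ⟨σ, τ, hστ⟩ := exists_pair_of_multiplicative r hq
  set φ : F ≃+* F := τ.trans σ.symm with hφ
  have hrφ : ∀ x, r₀ x = σ (φ x * x) := fun x => by
    show r x = _
    rw [hστ, map_mul, hφ]
    simp [mul_comm]
  haveI : Fintype K := Fintype.ofFinite _
  let π : P → F := fun g => Multiplicative.toAdd (ψV.symm (QuotientGroup.mk g))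
  have hπψ : ∀ g : P, (QuotientGroup.mk g : P ⧸ W) = ψV (Multiplicative.ofAdd (π g)) := fun g => by
    simp [π]
  have hπ : ∀ g h, π (g * h) = π g + π h := fun g h => by simp [π]
  let Z : F → P := fun z => (ψZ (Multiplicative.ofAdd (σ z)) : P)
  have hZ0 : ∀ z z', Z (z + z') = Z z * Z z' := fun z z' => by
    simp [Z, ofAdd_add]
  have hZc : ∀ z g, g * Z z = Z z * g := fun z g => Subgroup.mem_center_iff.1 (ψZ _).2.1 g
  have hZπ : ∀ z, π (Z z) = 0 := fun z => by
    simp only [π]
    rw [(QuotientGroup.eq_one_iff _).2 (ψZ (Multiplicative.ofAdd (σ z))).2, map_one, toAdd_one]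
  have hZinj : Function.Injective Z := fun z z' h => σ.injective (hψZinj h)
  have hZker : ∀ g, π g = 0 → ∃ z, g = Z z := fun g hg => by
    have hgW : g ∈ W := (QuotientGroup.eq_one_iff g).1 (by rw [hπψ g, hg, ofAdd_zero, map_one])
    refine ⟨σ.symm (Multiplicative.toAdd (ψZ.symm ⟨g, hgW⟩)), ?_⟩
    simp [Z]
  have hsq : ∀ g, g * g = Z (π g * φ (π g)) := fun g => by
    show g * g = (ψZ (Multiplicative.ofAdd (σ (π g * φ (π g)))) : P)
    rw [mul_comm (π g), ← hrφ, hr₀ g _ (hπψ g)]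
  obtain ⟨ε, hε, hεZ⟩ := exists_height φ π hπ Z hZ0 hZc hZπ hZinj hsq
  -- scalars
  have hscal : ∀ k : K, ∃ a : F, a ≠ 0 ∧ (∀ g, π ((k : MulAut P) g) = a * π g) ∧
      ∀ z, (k : MulAut P) (Z z) = Z (a * φ a * z) := by
    intro k
    obtain ⟨a, ha, haV⟩ := hψV k
    obtain ⟨b, hb⟩ := hψZ k
    have h1 : ∀ g, π ((k : MulAut P) g) = a * π g := fun g => by
      show Multiplicative.toAdd (ψV.symm (QuotientGroup.mk ((k : MulAut P) g))) = _
      rw [← hact k g]
      show Multiplicative.toAdd (ψV.symm (ι k (QuotientGroup.mk g))) = _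
      rw [hπψ g, haV, MulEquiv.symm_apply_apply, toAdd_ofAdd]
    refine ⟨a, ha, h1, fun z => ?_⟩
    have hb' : ∀ x, (k : MulAut P) (ψZ (Multiplicative.ofAdd x) : P) =
        ψZ (Multiplicative.ofAdd (b * x)) := fun x => congrArg Subtype.val (hb x)
    have key : b * r₀ 1 = r₀ (a * 1) := hψZinj (by
      rw [← hb', hr₀ g₁ 1 hψV1.symm, map_mul, hr₀ ((k : MulAut P) g₁)]
      rw [← haV, hψV1]; rfl)
    rw [hr1, mul_one, mul_one, hrφ] at key
    show (k : MulAut P) (ψZ (Multiplicative.ofAdd (σ z)) : P) =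
      (ψZ (Multiplicative.ofAdd (σ (a * φ a * z))) : P)
    rw [hb', key, ← map_mul, mul_comm (φ a) a]
  choose sc hsc hscπ hscZ using hscal
  have hone : Odd (Nat.card K) := by
    obtain ⟨n, hn⟩ := IsPGroup.iff_card.1 (hR.isPGroup.to_subgroup W)
    have h1 := card_K hR
    have hn0 : n ≠ 0 := fun h => by rw [h, pow_zero] at hn; omega
    obtain ⟨m, rfl⟩ : ∃ m, n = m + 1 := ⟨n - 1, by omega⟩
    rw [← hW, hn, pow_succ] at h1
    have := Nat.one_le_two_pow (n := m)
    exact ⟨2 ^ m - 1, by omega⟩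
  have hcardK : ((Fintype.card K : ℕ) : F) = 1 := by
    obtain ⟨m, hm⟩ := hone
    rw [← Nat.card_eq_fintype_card, hm, Nat.cast_add, Nat.cast_mul, Nat.cast_one,
      show ((2 : ℕ) : F) = 0 from CharP.cast_eq_zero F 2, zero_mul, zero_add]
  have hN : ∀ k, sc k * φ (sc k) ≠ 0 := fun k =>
    mul_ne_zero (hsc k) (by rw [Ne, map_eq_zero_iff φ φ.injective]; exact hsc k)
  let δ : P → F := fun g => ∑ k : K, (sc k * φ (sc k))⁻¹ * ε ((k : MulAut P) g)
  have hδ : ∀ g h, δ (g * h) = δ g + δ h + π h * φ (π g) := by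
    intro g h
    have e : ∀ k : K, (sc k * φ (sc k))⁻¹ * ε ((k : MulAut P) (g * h)) =
        (sc k * φ (sc k))⁻¹ * ε ((k : MulAut P) g) + (sc k * φ (sc k))⁻¹ * ε ((k : MulAut P) h) +
          π h * φ (π g) := fun k => by
      rw [map_mul, hε, hscπ, hscπ, map_mul, mul_add, mul_add]
      congr 1
      rw [show sc k * π h * (φ (sc k) * φ (π g)) = sc k * φ (sc k) * (π h * φ (π g)) by ring,
        inv_mul_cancel_left₀ (hN k)]
    simp only [δ, e, Finset.sum_add_distrib, Finset.sum_const, Finset.card_univ, nsmul_eq_mul,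
      hcardK, one_mul]
  have hδZ : ∀ z, δ (Z z) = z := fun z => by
    simp only [δ, hscZ, hεZ, inv_mul_cancel_left₀ (hN _)]
    rw [Finset.sum_const, Finset.card_univ, nsmul_eq_mul, hcardK, one_mul]
  refine ⟨F, inferInstance, inferInstance, φ, fun g => (π g, δ g), hchar, by rw [hFcard, hVcard],
    ⟨?_, ?_⟩, fun g h => by dsimp only; rw [hπ, hδ], fun k => ⟨sc k, hsc k, fun g => ?_⟩⟩
  · intro g h e
    obtain ⟨e1, e2⟩ := Prod.ext_iff.1 e
    dsimp only at e1 e2
    obtain ⟨z, hz⟩ := hZker (g⁻¹ * h) (by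
      have := hπ g (g⁻¹ * h)
      rw [mul_inv_cancel_left, ← e1] at this
      exact add_eq_left.1 this.symm)
    have := hδ g (g⁻¹ * h)
    rw [mul_inv_cancel_left, hz, hδZ, ← e2, hZπ, zero_mul, add_zero] at this
    have hz0 : z = 0 := add_eq_left.1 this.symm
    have hZ1 : Z 0 = 1 := by
      have := hZ0 0 0
      rw [add_zero] at this
      exact mul_eq_left.1 this.symm
    rw [hz0, hZ1] at hz
    exact inv_mul_eq_one.1 hz
  · rintro ⟨x, y⟩
    refine ⟨X x * Z (δ (X x) + y), Prod.ext ?_ ?_⟩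
    · show π (X x * Z (δ (X x) + y)) = x
      rw [hπ, hZπ, add_zero]
      show Multiplicative.toAdd (ψV.symm (QuotientGroup.mk (X x))) = x
      rw [hX, MulEquiv.symm_apply_apply, toAdd_ofAdd]
    · show δ (X x * Z (δ (X x) + y)) = y
      rw [hδ, hδZ, hZπ, zero_mul, add_zero]
      linear_combination h2 (δ (X x))
  · refine Prod.ext (hscπ k g) ?_
    show δ ((k : MulAut P) g) = sc k * φ (sc k) * δ g
    simp only [δ, Finset.mul_sum]
    refine Fintype.sum_equiv (Equiv.mulRight k) _ _ fun l => ?_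
    have hmul : ∀ g, ((l : MulAut P) ((k : MulAut P) g)) = ((l * k : K) : MulAut P) g := fun g => rfl
    have hs : sc (l * k) = sc l * sc k := by
      have h1 := hscπ (l * k) g₁
      have hg1 : π g₁ = 1 := by
        show Multiplicative.toAdd (ψV.symm (QuotientGroup.mk g₁)) = 1
        rw [← hψV1, MulEquiv.symm_apply_apply, toAdd_ofAdd]
      rw [← hmul, hscπ, hscπ, hg1, mul_one, mul_one] at h1
      exact h1.symm
    rw [Equiv.coe_mulRight, hmul, hs, map_mul]
    rw [show sc l * sc k * (φ (sc l) * φ (sc k)) = (sc k * φ (sc k)) * (sc l * φ (sc l)) by ring,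
      mul_inv (sc k * φ (sc k)) (sc l * φ (sc l)), ← mul_assoc (sc k * φ (sc k)),
      ← mul_assoc (sc k * φ (sc k)), mul_inv_cancel₀ (hN k), one_mul]

end CfsgLib.ZTUnique
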