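import Cfsg.Agent.Lib.ZTUnique.Twist

/-!
Coordinate frames of doubly transitive groups and the structure map attached to a frame.
-/

set_option autoImplicit false
set_option linter.style.haveILetI false
set_option linter.unusedSectionVars false

namespace CfsgLib.ZTUnique

variable {G Ω : Type*} [Group G] [MulAction G Ω] {F : Type*} [Field F] [Fintype F] [CharP F 2]

/-- A coordinate frame: translations, torus, the exchanging involution and the structure map. -/
structure IsFrame (a b : Ω) (θ : F ≃+* F) (c : F × F → G) (d : F → G) (w : G)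
    (π : F × F → F × F) : Prop where
  faithful : FaithfulSMul G Ω
  ne : a ≠ b
  c_mul : ∀ p q, c p * c q = c (mulA θ p q)
  c_a : ∀ p, c p • a = a
  c_surj : ∀ x : Ω, x ≠ a → ∃ p, c p • b = x
  c_inj : ∀ p q, c p • b = c q • b → p = q
  d_mul : ∀ l m, l ≠ 0 → m ≠ 0 → d l * d m = d (l * m)
  d_a : ∀ l, d l • a = a
  d_b : ∀ l, d l • b = b
  d_c : ∀ l p, l ≠ 0 → d l * c p = c (scalA θ l p) * d l
  d_surj : ∀ g : G, g • a = a → g • b = b → ∃ l, l ≠ 0 ∧ d l = g
  free : ∀ l p, p ≠ 0 → scalA θ l p = p → l = 1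
  w_a : w • a = b
  w_b : w • b = a
  w_sq : w * w = 1
  w_d : ∀ l, l ≠ 0 → w * d l = d l⁻¹ * w
  pi_spec : ∀ p, p ≠ 0 → w • c p • b = c (π p) • b

namespace IsFrame

variable {a b : Ω} {θ : F ≃+* F} {c : F × F → G} {d : F → G} {w : G} {π : F × F → F × F}
  (hF : IsFrame a b θ c d w π)
include hF

theorem c_zero : c 0 = 1 := by
  have h := hF.c_mul 0 0
  rw [mulA_zero] at h
  exact mul_eq_left.1 h

theorem c_inv (p : F × F) : (c p)⁻¹ = c (invA θ p) :=
  inv_eq_of_mul_eq_one_right (by rw [hF.c_mul, mulA_invA, hF.c_zero])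

theorem c_ne (p : F × F) : c p • b ≠ a := fun e =>
  hF.ne (MulAction.injective (c p) (e.trans (hF.c_a p).symm)).symm

theorem d_one : d 1 = 1 := mul_eq_left.1 (by rw [hF.d_mul 1 1 one_ne_zero one_ne_zero, mul_one])

theorem d_inv {l : F} (hl : l ≠ 0) : (d l)⁻¹ = d l⁻¹ :=
  inv_eq_of_mul_eq_one_right (by rw [hF.d_mul _ _ hl (inv_ne_zero hl), mul_inv_cancel₀ hl, hF.d_one])

theorem d_inj {l m : F} (hl : l ≠ 0) (hm : m ≠ 0) (e : d l = d m) : l = m := by
  have h := hF.d_c l (1, 0) hl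
  rw [e, hF.d_c m _ hm, mul_left_inj] at h
  have h' : (l * 1, l * θ l * 0) = (m * 1, m * θ m * 0) :=
    (hF.c_inj _ _ (congrArg (· • b) h)).symm
  simpa using congrArg Prod.fst h'

theorem d_smul {l : F} (hl : l ≠ 0) (p : F × F) : d l • c p • b = c (scalA θ l p) • b := by
  rw [← mul_smul, hF.d_c l p hl, mul_smul, hF.d_b]

theorem norm_inj {x : F} (e : x * θ x = 1) : x = 1 :=
  hF.free x (0, 1) (fun h => one_ne_zero (congrArg Prod.snd h))
    (Prod.ext (mul_zero x) (by show x * θ x * 1 = 1; rw [mul_one, e]))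

theorem w_c_ne_a {p : F × F} (hp : p ≠ 0) : w • c p • b ≠ a := fun e => hp (hF.c_inj _ _ (by
  rw [hF.c_zero, one_smul]
  exact MulAction.injective w (e.trans hF.w_b.symm)))

theorem pi_ne {p : F × F} (hp : p ≠ 0) : π p ≠ 0 := fun e => by
  have h := hF.pi_spec p hp
  rw [e, hF.c_zero, one_smul] at h
  exact hF.c_ne p (MulAction.injective w (h.trans hF.w_a.symm))

theorem pi_invol {p : F × F} (hp : p ≠ 0) : π (π p) = p := hF.c_inj _ _ (by
  rw [← hF.pi_spec _ (hF.pi_ne hp), ← hF.pi_spec p hp, ← mul_smul, hF.w_sq, one_smul])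

theorem pi_scal {l : F} {p : F × F} (hl : l ≠ 0) (hp : p ≠ 0) :
    π (scalA θ l p) = scalA θ l⁻¹ (π p) := hF.c_inj _ _ (by
  rw [← hF.pi_spec _ (scalA_ne_zero hl hp), ← hF.d_smul (inv_ne_zero hl), ← hF.d_smul hl,
    ← mul_smul, hF.w_d l hl, mul_smul, hF.pi_spec p hp])

theorem invA_ne {p : F × F} (hp : p ≠ 0) : invA θ p ≠ 0 := fun e => hp (by
  have h := mulA_invA (θ := θ) p
  rwa [e, mulA_zero] at h)

/-- Every element of the stabiliser of the first point is a translation times a torus element. -/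
theorem stab_factor {g : G} (hg : g • a = a) : ∃ p l, l ≠ 0 ∧ g = c p * d l := by
  have hgb : g • b ≠ a := fun e => hF.ne (MulAction.injective g (e.trans hg.symm)).symm
  obtain ⟨p, hp⟩ := hF.c_surj _ hgb
  obtain ⟨l, hl, hld⟩ := hF.d_surj ((c p)⁻¹ * g)
    (by rw [mul_smul, hg, inv_smul_eq_iff, hF.c_a]) (by rw [mul_smul, inv_smul_eq_iff, hp])
  exact ⟨p, l, hl, by rw [hld, mul_inv_cancel_left]⟩

/-- The decomposition of a conjugated translation. -/
theorem decomp {p : F × F} (hp : p ≠ 0) :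
    ∃ l, l ≠ 0 ∧ w * c p * w = c (π p) * d l * w * c (invA θ (π (invA θ p))) := by
  have hwi : w⁻¹ = w := inv_eq_of_mul_eq_one_right hF.w_sq
  set g := (c (π p) * w)⁻¹ * (w * c p * w) with hg
  have hga : g • a = a := by
    rw [hg, mul_smul, inv_smul_eq_iff, mul_smul, mul_smul, mul_smul, hF.w_a, hF.pi_spec p hp]
  obtain ⟨q, l, hl, hgq⟩ := hF.stab_factor hga
  have he : w * c p * w = c (π p) * d l⁻¹ * w * c (scalA θ l⁻¹ q) := by
    have h1 : w * c p * w = c (π p) * w * g := by rw [hg, mul_inv_cancel_left]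
    rw [h1, hgq, show c q * d l = d l * c (scalA θ l⁻¹ q) by
      rw [hF.d_c l _ hl, scalA_scalA, mul_inv_cancel₀ hl, scalA_one]]
    calc c (π p) * w * (d l * c (scalA θ l⁻¹ q))
        = c (π p) * (w * d l) * c (scalA θ l⁻¹ q) := by group
      _ = _ := by rw [hF.w_d l hl]; group
  refine ⟨l⁻¹, inv_ne_zero hl, ?_⟩
  suffices scalA θ l⁻¹ q = invA θ (π (invA θ p)) by rw [← this, he]
  have h2 : w * c (invA θ p) * w =
      c (invA θ (scalA θ l⁻¹ q)) * w * (d l⁻¹)⁻¹ * c (invA θ (π p)) := by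
    have := congrArg (·⁻¹) he
    simp only [mul_inv_rev, hF.c_inv, hwi] at this
    calc w * c (invA θ p) * w = w * (c (invA θ p) * w) := mul_assoc _ _ _
      _ = _ := this
      _ = _ := by group
  have h3 := congrArg (· • a) h2
  simp only [mul_smul, hF.c_a, hF.w_a, hF.d_inv (inv_ne_zero hl), inv_inv, hF.d_a,
    hF.pi_spec _ (invA_ne hF hp)] at h3
  have h4 := hF.c_inj _ _ h3
  rw [h4]
  refine Prod.ext rfl ?_
  show _ = (scalA θ l⁻¹ q).2 + (scalA θ l⁻¹ q).1 * θ (scalA θ l⁻¹ q).1 +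
    (scalA θ l⁻¹ q).1 * θ (scalA θ l⁻¹ q).1
  rw [add_assoc, two_zero, add_zero]

/-- A normalised frame satisfies the hypotheses on the structure map. -/
theorem exists_alg (hlarge : ∃ x : F, x ≠ 0 ∧ x ≠ 1) (hn : (π (0, 1)).1 = 1) :
    ∃ h, Alg θ π h := by
  classical
  have hd' : ∀ p, ∃ l, p ≠ 0 → l ≠ 0 ∧
      w * c p * w = c (π p) * d l * w * c (invA θ (π (invA θ p))) := by
    intro p
    by_cases hp : p = 0
    · exact ⟨1, fun h => absurd hp h⟩
    · obtain ⟨l, hl⟩ := hF.decomp hp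
      exact ⟨l, fun _ => hl⟩
  choose h hh using hd'
  refine ⟨h, fun x _ e => hF.norm_inj e, hlarge, fun p hp => hF.pi_ne hp,
    fun p hp => hF.pi_invol hp, fun p hp => (hh p hp).1, fun l p hl hp => hF.pi_scal hl hp,
    ?_, ?_, hn⟩
  · intro l p hl hp
    have hi := inv_ne_zero hl
    obtain ⟨hp0, e⟩ := hh p hp
    obtain ⟨hs0, es⟩ := hh _ (scalA_ne_zero hl hp)
    have e' : w * c (scalA θ l p) * w = c (π (scalA θ l p)) * d (h p / (l * l)) * w *
        c (invA θ (π (invA θ (scalA θ l p)))) := by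
      rw [hF.pi_scal hl hp, ← scalA_invA, hF.pi_scal hl (invA_ne hF hp), ← scalA_invA]
      have h1 : c (scalA θ l p) = d l * c p * d l⁻¹ := by
        rw [hF.d_c l p hl, mul_assoc, hF.d_mul l _ hl hi, mul_inv_cancel₀ hl, hF.d_one, mul_one]
      have h2 : d l⁻¹ * w = w * d l := (hF.w_d l hl).symm
      have h3 : w * d l⁻¹ = d l * w := by rw [hF.w_d _ hi, inv_inv]
      calc w * c (scalA θ l p) * w = w * d l * c p * (d l⁻¹ * w) := by rw [h1]; group
        _ = (d l⁻¹ * w) * c p * (w * d l) := by rw [hF.w_d l hl, h2, hF.w_d l hl]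
        _ = d l⁻¹ * (w * c p * w) * d l := by group
        _ = (d l⁻¹ * c (π p)) * d (h p) * w * (c (invA θ (π (invA θ p))) * d l) := by rw [e]; group
        _ = c (scalA θ l⁻¹ (π p)) * (d l⁻¹ * d (h p)) * w * (c (invA θ (π (invA θ p))) * d l) := by
          rw [hF.d_c _ _ hi]; group
        _ = c (scalA θ l⁻¹ (π p)) * d (l⁻¹ * h p) * (w * d l) *
            c (scalA θ l⁻¹ (invA θ (π (invA θ p)))) := by
          rw [hF.d_mul _ _ hi hp0, show c (invA θ (π (invA θ p))) * d l =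
            d l * c (scalA θ l⁻¹ (invA θ (π (invA θ p)))) by
              rw [hF.d_c l _ hl, scalA_scalA, mul_inv_cancel₀ hl, scalA_one]]
          group
        _ = c (scalA θ l⁻¹ (π p)) * (d (l⁻¹ * h p) * d l⁻¹) * w *
            c (scalA θ l⁻¹ (invA θ (π (invA θ p)))) := by rw [hF.w_d l hl]; group
        _ = _ := by
          rw [hF.d_mul _ _ (mul_ne_zero hi hp0) hi]
          congr 4
          rw [div_eq_mul_inv, mul_inv]
          ring
    rw [es] at e'
    exact hF.d_inj hs0 (div_ne_zero hp0 (mul_ne_zero hl hl))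
      (mul_left_cancel (mul_right_cancel (mul_right_cancel e')))
  · intro p v hp hv h1 h2
    obtain ⟨hp0, e⟩ := hh p hp
    refine hF.c_inj _ _ ?_
    rw [← hF.pi_spec _ h1, ← hF.c_mul, mul_smul, ← hF.pi_spec v hv, ← mul_smul, ← mul_smul, e,
      mul_smul, mul_smul, mul_smul, ← mul_smul (c (invA θ (π (invA θ p)))), hF.c_mul,
      hF.pi_spec _ h2, hF.d_smul hp0, ← mul_smul, hF.c_mul]

/-- Transport of a frame along a change of coordinates. -/
theorem map {F' : Type*} [Field F'] [Fintype F'] [CharP F' 2] (θ' : F' ≃+* F')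
    (φ : F' × F' ≃ F × F) (e : F' ≃+* F)
    (hmul : ∀ p q, φ (mulA θ' p q) = mulA θ (φ p) (φ q))
    (hscal : ∀ l p, φ (scalA θ' l p) = scalA θ (e l) (φ p)) :
    IsFrame a b θ' (fun p => c (φ p)) (fun l => d (e l)) w (fun p => φ.symm (π (φ p))) := by
  have h0 : φ 0 = 0 := by
    have := hscal 0 0
    rw [map_zero] at this
    simpa [scalA, Prod.mk_zero_zero] using this
  have hne : ∀ p, p ≠ 0 → φ p ≠ 0 := fun p hp h => hp (φ.injective (h.trans h0.symm))
  have hel : ∀ l, l ≠ 0 → e l ≠ 0 := fun l hl => (map_ne_zero_iff e e.injective).2 hl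
  refine ⟨hF.faithful, hF.ne, fun p q => by rw [hmul, hF.c_mul], fun p => hF.c_a _, fun x hx => ?_,
    fun p q h => φ.injective (hF.c_inj _ _ h),
    fun l m hl hm => by rw [map_mul, hF.d_mul _ _ (hel l hl) (hel m hm)],
    fun l => hF.d_a _, fun l => hF.d_b _,
    fun l p hl => by rw [hscal, hF.d_c _ _ (hel l hl)], fun g ga gb => ?_, fun l p hp h => ?_,
    hF.w_a, hF.w_b, hF.w_sq, fun l hl => by rw [hF.w_d _ (hel l hl), map_inv₀], fun p hp => ?_⟩
  · obtain ⟨p, hp⟩ := hF.c_surj x hx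
    exact ⟨φ.symm p, by show c (φ (φ.symm p)) • b = x; rw [φ.apply_symm_apply, hp]⟩
  · obtain ⟨l, hl, hld⟩ := hF.d_surj g ga gb
    exact ⟨e.symm l, (map_ne_zero_iff e.symm e.symm.injective).2 hl,
      by show d (e (e.symm l)) = g; rw [e.apply_symm_apply, hld]⟩
  · refine e.injective ?_
    rw [map_one]
    refine hF.free _ (φ p) (hne p hp) ?_
    rw [← hscal, h]
  · show w • c (φ p) • b = c (φ (φ.symm (π (φ p)))) • b
    rw [φ.apply_symm_apply, hF.pi_spec _ (hne p hp)]

/-- The image of a central element is not central unless three divides the order. -/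
theorem pi_not_central [Finite G] (h3 : ¬ 3 ∣ Nat.card G) : (π (0, 1)).1 ≠ 0 := by
  intro hα
  have h01 : ((0 : F), (1 : F)) ≠ 0 := fun e => one_ne_zero (congrArg Prod.snd e)
  set β := (π (0, 1)).2 with hβ
  have hβ0 : β ≠ 0 := fun e => hF.pi_ne h01 (Prod.ext hα e)
  obtain ⟨z, hz⟩ := FiniteField.isSquare_of_char_two (F := F) (CharP.eq F (ringChar.charP F) ‹_›) β
  have hz0 : z ≠ 0 := fun e => hβ0 (by rw [hz, e, mul_zero])
  let f : {x : F // x ≠ 0} → {x : F // x ≠ 0} :=
    fun x => ⟨x.1 * θ x.1, mul_theta_ne_zero x.2⟩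
  have hf : Function.Injective f := by
    intro x y e
    have e' : x.1 * θ x.1 = y.1 * θ y.1 := congrArg Subtype.val e
    have := hF.norm_inj (x := x.1 / y.1) (by
      rw [map_div₀, div_mul_div_comm, e', div_self (mul_theta_ne_zero y.2)])
    exact Subtype.ext ((div_eq_one_iff_eq y.2).1 this)
  obtain ⟨⟨B, hB⟩, hBz⟩ := Finite.surjective_of_injective hf ⟨z, hz0⟩
  have hBz' : B * θ B = z := congrArg Subtype.val hBz
  set p : F × F := (0, z) with hp
  have hp0 : p ≠ 0 := fun e => hz0 (congrArg Prod.snd e)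
  have hpe : p = scalA θ B (0, 1) := Prod.ext (mul_zero B).symm (by
    show z = B * θ B * 1
    rw [mul_one, hBz'])
  have hfix : π p = p := by
    rw [hpe, hF.pi_scal hB h01]
    refine Prod.ext ?_ ?_
    · show B⁻¹ * (π (0, 1)).1 = B * 0
      rw [hα, mul_zero, mul_zero]
    · show B⁻¹ * θ B⁻¹ * β = B * θ B * 1
      rw [map_inv₀, ← mul_inv, hBz', hz, mul_one, inv_mul_cancel_left₀ hz0]
  have hinv : invA θ p = p := by simp [hp, invA]
  obtain ⟨l, hl, he⟩ := hF.decomp hp0
  rw [hinv, hfix, hinv] at he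
  set x := w * c p with hx
  have hcc : c p * c p = 1 := by
    rw [hF.c_mul, ← hF.c_zero]
    conv_lhs => arg 1; arg 3; rw [← hinv]
    rw [mulA_invA]
  have hx3 : x * x * x = c p * c (scalA θ l p) * d l := by
    calc x * x * x = (w * c p * w) * c p * (w * c p) := by rw [hx]; group
      _ = c p * d l * w * (c p * c p) * w * c p := by rw [he]; group
      _ = c p * d l * (w * w) * c p := by rw [hcc]; group
      _ = c p * (d l * c p) := by rw [hF.w_sq]; group
      _ = _ := by rw [hF.d_c l p hl]; group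
  have hxa : x • a = b := by rw [hx, mul_smul, hF.c_a, hF.w_a]
  have h3b : (x * x * x) • b = b := by
    calc (x * x * x) • b = (x * x * x) • x • a := by rw [hxa]
      _ = x • (x * x * x) • a := by simp only [mul_smul]
      _ = b := by
        rw [hx3]
        simp only [mul_smul, hF.d_a, hF.c_a]
        exact hxa
  rw [hx3, mul_smul, mul_smul, hF.d_b, ← mul_smul, hF.c_mul] at h3b
  have h0 : mulA θ p (scalA θ l p) = 0 := hF.c_inj _ _ (by rw [h3b, hF.c_zero, one_smul])
  have hl1 : l = 1 := by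
    refine hF.free l p hp0 ?_
    have := congrArg (mulA θ p) h0
    rwa [← mulA_assoc, show mulA θ p p = 0 by
      conv_lhs => arg 3; rw [← hinv]
      rw [mulA_invA], zero_mulA, mulA_zero] at this
  have hx1 : x ^ 3 = 1 := by
    rw [pow_succ, pow_two, hx3, hl1, scalA_one, hF.d_one, mul_one, hcc]
  haveI : Fact (Nat.Prime 3) := ⟨Nat.prime_three⟩
  have hord : orderOf x = 3 := orderOf_eq_prime hx1 (fun e => hF.ne (by rw [← hxa, e, one_smul]))
  exact h3 (hord ▸ orderOf_dvd_natCard x)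

end IsFrame

end CfsgLib.ZTUnique
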