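import Cfsg.Agent.Lib.ZTUnique.Structure

/-!
Zassenhaus groups with nonabelian 2-kernels are determined by the order of a two-point stabiliser.
-/

set_option autoImplicit false
set_option linter.style.haveILetI false
set_option linter.unusedSectionVars false

open MulAction

namespace CfsgLib.ZTUnique

/-- A twist with `θ (θ x) ^ 2 = x` on a field of order an odd power of two is unique. -/
theorem twist_unique {F : Type*} [Field F] [Fintype F] [CharP F 2] {f : ℕ} (hf : Odd f)
    (hF : Fintype.card F = 2 ^ f) (θ θ' : F ≃+* F) (h : ∀ x, θ (θ x) * θ (θ x) = x)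
    (h' : ∀ x, θ' (θ' x) * θ' (θ' x) = x) : θ = θ' := by
  haveI : Fact (Nat.Prime 2) := ⟨Nat.prime_two⟩
  letI : Algebra (ZMod 2) F := ZMod.algebra F 2
  have hcard : Nat.card (F ≃ₐ[ZMod 2] F) = f := by
    rw [IsGalois.card_aut_eq_finrank]
    have := Module.card_eq_pow_finrank (K := ZMod 2) (V := F)
    rw [ZMod.card, hF] at this
    exact (Nat.pow_right_injective le_rfl this).symm
  have hit : ∀ (σ : F ≃+* F) (x : F), (⇑σ)^[f] x = x := by
    intro σ x
    let s : F ≃ₐ[ZMod 2] F := AlgEquiv.ofRingEquiv (f := σ) fun z =>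
      DFunLike.congr_fun (Subsingleton.elim ((σ : F →+* F).comp (algebraMap (ZMod 2) F))
        (algebraMap (ZMod 2) F)) z
    haveI : Finite (F ≃ₐ[ZMod 2] F) := Nat.finite_of_card_ne_zero (by
      rw [hcard]; exact fun e => by rw [e] at hf; exact Nat.not_odd_zero hf)
    have hs : s ^ f = 1 := by rw [← hcard]; exact pow_card_eq_one'
    have := DFunLike.congr_fun hs x
    rw [AlgEquiv.coe_pow, AlgEquiv.one_apply] at this
    exact this
  have h2 : ∀ x, θ (θ x) = θ' (θ' x) := fun x => (frobeniusEquiv F 2).injective (by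
    rw [frobeniusEquiv_def, frobeniusEquiv_def, sq, sq, h, h'])
  have h2' : (⇑θ)^[2] = (⇑θ')^[2] := funext h2
  obtain ⟨j, rfl⟩ := hf
  refine RingEquiv.ext fun x => ?_
  have e1 : θ x = (⇑θ)^[2 * (j + 1)] x := by
    rw [show 2 * (j + 1) = (2 * j + 1) + 1 by ring, Function.iterate_add_apply, hit]
    rfl
  have e2 : θ' x = (⇑θ')^[2 * (j + 1)] x := by
    rw [show 2 * (j + 1) = (2 * j + 1) + 1 by ring, Function.iterate_add_apply, hit]
    rfl
  rw [e1, e2, Function.iterate_mul, Function.iterate_mul, h2']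

namespace IsFrame

variable {G Ω : Type*} [Group G] [MulAction G Ω] {G' Ω' : Type*} [Group G'] [MulAction G' Ω']
  {F : Type*} [Field F] [Fintype F] [CharP F 2] {θ : F ≃+* F} {a b : Ω} {a' b' : Ω'}
  {c : F × F → G} {d : F → G} {w : G} {π : F × F → F × F}
  {c' : F × F → G'} {d' : F → G'} {w' : G'} {π' : F × F → F × F}
  (hF : IsFrame a b θ c d w π) (hF' : IsFrame a' b' θ c' d' w' π')
include hF hF'

/-- A bijection matching two frames conjugates the first group into the second. -/
theorem exists_image (hπ : ∀ p, p ≠ 0 → π p = π' p) (E : Ω → Ω') (ha : E a = a')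
    (hE : ∀ p, E (c p • b) = c' p • b') (g : G) : ∃ g' : G', ∀ x, E (g • x) = g' • E x := by
  have hb : E b = b' := by
    have := hE 0
    rwa [hF.c_zero, hF'.c_zero, one_smul, one_smul] at this
  have hc : ∀ q x, E (c q • x) = c' q • E x := by
    intro q x
    by_cases hx : x = a
    · rw [hx, hF.c_a, ha, hF'.c_a]
    · obtain ⟨p, rfl⟩ := hF.c_surj x hx
      rw [← mul_smul, hF.c_mul, hE, hE, ← mul_smul, hF'.c_mul]
  have hd : ∀ l, l ≠ 0 → ∀ x, E (d l • x) = d' l • E x := by
    intro l hl x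
    by_cases hx : x = a
    · rw [hx, hF.d_a, ha, hF'.d_a]
    · obtain ⟨p, rfl⟩ := hF.c_surj x hx
      rw [hF.d_smul hl, hE, hE, hF'.d_smul hl]
  have hw : ∀ x, E (w • x) = w' • E x := by
    intro x
    by_cases hx : x = a
    · rw [hx, hF.w_a, ha, hb, hF'.w_a]
    · obtain ⟨p, rfl⟩ := hF.c_surj x hx
      by_cases hp : p = 0
      · rw [hp, hF.c_zero, one_smul, hF.w_b, ha, hb, hF'.w_b]
      · rw [hF.pi_spec p hp, hE, hE, hF'.pi_spec p hp, hπ p hp]
  by_cases hga : g • a = a
  · obtain ⟨p, l, hl, rfl⟩ := hF.stab_factor hga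
    exact ⟨c' p * d' l, fun x => by rw [mul_smul, mul_smul, hc, hd l hl]⟩
  · obtain ⟨q, hq⟩ := hF.c_surj _ hga
    obtain ⟨p, l, hl, he⟩ := hF.stab_factor (g := (c q * w)⁻¹ * g) (by
      rw [mul_smul, inv_smul_eq_iff, mul_smul, hF.w_a, hq])
    refine ⟨c' q * w' * (c' p * d' l), fun x => ?_⟩
    rw [show g = c q * w * (c p * d l) by rw [← he, mul_inv_cancel_left]]
    simp only [mul_smul]
    rw [hc, hw, hc, hd l hl]

/-- Two frames with the same twist and structure map give isomorphic groups. -/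
theorem nonempty_mulEquiv (hπ : ∀ p, p ≠ 0 → π p = π' p) : Nonempty (G ≃* G') := by
  classical
  haveI := hF.faithful
  haveI := hF'.faithful
  choose P hP using hF.c_surj
  choose P' hP' using hF'.c_surj
  let E : Ω → Ω' := fun x => if h : x = a then a' else c' (P x h) • b'
  let E' : Ω' → Ω := fun x => if h : x = a' then a else c (P' x h) • b
  have hEa : E a = a' := dif_pos rfl
  have hEa' : E' a' = a := dif_pos rfl
  have hE : ∀ p, E (c p • b) = c' p • b' := fun p => by
    simp only [E, dif_neg (hF.c_ne p)]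
    rw [hF.c_inj _ p (hP _ _)]
  have hE' : ∀ p, E' (c' p • b') = c p • b := fun p => by
    simp only [E', dif_neg (hF'.c_ne p)]
    rw [hF'.c_inj _ p (hP' _ _)]
  have hl : ∀ x, E' (E x) = x := fun x => by
    by_cases hx : x = a
    · rw [hx, hEa, hEa']
    · obtain ⟨p, rfl⟩ := hF.c_surj x hx
      rw [hE, hE']
  have hr : ∀ x, E (E' x) = x := fun x => by
    by_cases hx : x = a'
    · rw [hx, hEa', hEa]
    · obtain ⟨p, rfl⟩ := hF'.c_surj x hx
      rw [hE', hE]
  choose T hT using exists_image hF hF' hπ E hEa hE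
  choose T' hT' using exists_image hF' hF (fun p hp => (hπ p hp).symm) E' hEa' hE'
  refine ⟨{ toFun := T, invFun := T', left_inv := fun g => ?_, right_inv := fun g => ?_,
            map_mul' := fun g h => ?_ }⟩
  · refine eq_of_smul_eq_smul (α := Ω) fun x => ?_
    rw [← hl x, ← hT', ← hT, hl, hl]
  · refine eq_of_smul_eq_smul (α := Ω') fun x => ?_
    rw [← hr x, ← hT, ← hT', hr, hr]
  · refine eq_of_smul_eq_smul (α := Ω') fun x => ?_
    rw [← hr x, ← hT, mul_smul, mul_smul, ← hT, ← hT]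

end IsFrame

end CfsgLib.ZTUnique

namespace CfsgLib.ZT

open CfsgLib.ZTUnique

/-- Zassenhaus groups with nonabelian 2-kernels and two-point stabilisers of the same order are
isomorphic. -/
theorem Setting.nonempty_mulEquiv {G G' : Type*} [Group G] [Group G'] {Ω Ω' : Type*}
    [MulAction G Ω] [Fintype Ω] [MulAction G' Ω'] [Fintype Ω'] {a b : Ω} {U : Subgroup G}
    {a' b' : Ω'} {U' : Subgroup G'} (hS : Setting G a b U) (hS' : Setting G' a' b' U')
    (h : Nat.card ↥(pair G a b) = Nat.card ↥(pair G' a' b')) : Nonempty (G ≃* G') := by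
  obtain ⟨f, F, _, _, _, θ, c, d, w, π, hh, hodd, hcard, hq, hF, hA, hβ⟩ := exists_normal_frame hS
  obtain ⟨f', F', _, _, _, θ', c', d', w', π', hh', -, hcard', hq', hF', hA', hβ'⟩ :=
    exists_normal_frame hS'
  let e : F ≃+* F' := FiniteField.ringEquivOfCardEq (K := F) (K' := F') (by rw [hcard, hcard', ← hq, ← hq', h])
  let φ : F × F ≃ F' × F' := Equiv.prodCongr e.toEquiv e.toEquiv
  let θ₁ : F ≃+* F := (e.trans θ').trans e.symm
  have hF1 := hF'.map θ₁ φ e
    (fun p q => by
      refine Prod.ext (map_add e _ _) ?_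
      show e (p.2 + q.2 + p.1 * e.symm (θ' (e q.1))) = e p.2 + e q.2 + e p.1 * θ' (e q.1)
      rw [map_add, map_add, map_mul, e.apply_symm_apply])
    (fun l p => by
      refine Prod.ext (map_mul e _ _) ?_
      show e (l * e.symm (θ' (e l)) * p.2) = e l * θ' (e l) * e p.2
      rw [map_mul, map_mul, e.apply_symm_apply])
  have h01 : φ ((0 : F), (1 : F)) = (0, 1) := by simp [φ]
  have hn : (φ.symm (π' (φ (0, 1)))).1 = 1 := by
    rw [h01]
    show e.symm (π' (0, 1)).1 = 1
    rw [hA'.normal, map_one]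
  obtain ⟨h₁, hA1⟩ := hF1.exists_alg hA.large hn
  have hβ1 : (φ.symm (π' (φ (0, 1)))).2 = 0 := by
    rw [h01]
    show e.symm (π' (0, 1)).2 = 0
    rw [hβ', map_zero]
  have hθ : θ₁ = θ := twist_unique hodd hcard θ₁ θ (hA1.h_one_and_twist hβ1).2
    (hA.h_one_and_twist hβ).2
  rw [hθ] at hF1 hA1
  exact hF.nonempty_mulEquiv hF1 fun p hp => Alg.unique hA hA1 hβ hβ1 hp

end CfsgLib.ZT
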