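import Cfsg.Agent.Lib.ZTUnique.Coord
import Cfsg.Agent.Lib.ZTUnique.Frame
import Cfsg.Agent.Lib.ZT.Main

/-!
The normalised coordinate frame of a Zassenhaus group with nonabelian 2-kernels.
-/

set_option autoImplicit false
set_option linter.style.haveILetI false
set_option linter.unusedSectionVars false

open MulAction

namespace CfsgLib.ZTUnique

open CfsgLib.Zass CfsgLib.SuzukiTwo CfsgLib.ZT

universe u

variable {G : Type u} {Ω : Type*} [Group G] [MulAction G Ω] [Fintype Ω] {a b : Ω} {U : Subgroup G}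

/-- Coordinates on the kernel give a frame. -/
theorem exists_frame (hS : Setting G a b U) :
    ∃ (f : ℕ) (F : Type) (_ : Field F) (_ : Fintype F) (_ : CharP F 2) (θ : F ≃+* F)
      (c : F × F → G) (d : F → G) (w : G) (π : F × F → F × F),
      Odd f ∧ 3 ≤ f ∧ Fintype.card F = 2 ^ f ∧ Nat.card ↥(pair G a b) + 1 = 2 ^ f ∧
        Nat.card U = (2 ^ f) ^ 2 ∧ IsFrame a b θ c d w π := by
  classical
  haveI := hS.finite_group
  obtain ⟨f, hodd, hf, hq, hU⟩ := hS.order
  have hR := hS.regularInv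
  have hna := hS.nonab'
  have hcen : Nat.card (Subgroup.center U) = 2 ^ f := by
    rw [center_eq hR hna, ← hS.card_center, hq]
  obtain ⟨F, _, _, θ₀, κ₀, hchar, hFcard, hbij, hlaw, hk⟩ :=
    exists_coords hR hna (by rw [hcen, hU])
  haveI := hchar
  let θ : F ≃+* F := θ₀.symm
  let κ : U → F × F := fun g => (θ₀ (κ₀ g).1, (κ₀ g).2)
  have hκ : Function.Bijective κ := by
    refine ⟨fun g h e => hbij.1 (Prod.ext (θ₀.injective (congrArg Prod.fst e))
      (congrArg Prod.snd e :)), fun p => ?_⟩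
    obtain ⟨g, hg⟩ := hbij.2 (θ₀.symm p.1, p.2)
    exact ⟨g, Prod.ext (by simp [κ, hg]) (by simp [κ, hg])⟩
  have hmul : ∀ g h, κ (g * h) = mulA θ (κ g) (κ h) := fun g h => by
    simp only [κ, mulA, θ, hlaw, map_add, θ₀.symm_apply_apply]
    refine Prod.ext rfl ?_
    show _ + _ + (κ₀ h).1 * θ₀ (κ₀ g).1 = _ + _ + θ₀ (κ₀ g).1 * (κ₀ h).1
    rw [mul_comm]
  have hscal : ∀ k : ↥(pair G a b), ∃ l : F, l ≠ 0 ∧
      ∀ g, κ (conjHom hS.kernel k g) = scalA θ l (κ g) := by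
    intro k
    obtain ⟨x, hx, hxg⟩ := hk ⟨conjHom hS.kernel k, k, rfl⟩
    refine ⟨θ₀ x, (map_ne_zero_iff θ₀ θ₀.injective).2 hx, fun g => ?_⟩
    have e := hxg g
    simp only [κ, scalA, θ]
    rw [e, map_mul, θ₀.symm_apply_apply, mul_comm (θ₀ x) x]
  choose L hL0 hL using hscal
  obtain ⟨g₁, hg₁⟩ := hκ.2 ((1 : F), (0 : F))
  have hκ1 : κ 1 = 0 := by
    have h := hmul 1 1
    rw [one_mul] at h
    have h' := congrArg (mulA θ (invA θ (κ 1))) h
    rwa [← mulA_assoc, invA_mulA, zero_mulA, eq_comm] at h'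
  have hg₁1 : g₁ ≠ 1 := fun e => one_ne_zero
    (congrArg Prod.fst (hg₁.symm.trans (e ▸ hκ1) : ((1 : F), (0 : F)) = 0))
  have hLmul : ∀ k l, L (k * l) = L k * L l := fun k l => by
    have h := hL (k * l) g₁
    rw [map_mul, MulAut.mul_apply, hL, hL, hg₁, scalA_scalA] at h
    have := congrArg Prod.fst h
    simpa [scalA] using this.symm
  have hone : ∀ (k : ↥(pair G a b)) (g : U), g ≠ 1 → conjHom hS.kernel k g = g → k = 1 := by
    intro k g hg e
    by_contra hne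
    refine hg (Subtype.ext (hS.commute_eq_one k.2 (fun e' => hne (Subtype.ext e')) g.2 ?_))
    have e' : (k : G) * g * (k : G)⁻¹ = g := congrArg Subtype.val e
    exact mul_inv_eq_iff_eq_mul.1 e'
  have hL1 : ∀ k, L k = 1 → k = 1 := fun k e => hone k g₁ hg₁1 (hκ.1 (by rw [hL, e, scalA_one]))
  let Lu : ↥(pair G a b) → {x : F // x ≠ 0} := fun k => ⟨L k, hL0 k⟩
  have hLu : Function.Bijective Lu := by
    have hinj : Function.Injective Lu := fun k l e => by
      have e' : L k = L l := congrArg Subtype.val e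
      have h1 : L (l⁻¹ * k) = 1 := mul_left_cancel₀ (hL0 l) (by
        rw [← hLmul, mul_inv_cancel_left, e', mul_one])
      exact (inv_mul_eq_one.1 (hL1 _ h1)).symm
    refine hinj.bijective_of_nat_card_le ?_
    rw [Nat.card_eq_fintype_card (α := {x : F // x ≠ 0}), Fintype.card_subtype_compl,
      Fintype.card_subtype_eq, hFcard, hcen]
    omega
  let eL := Equiv.ofBijective Lu hLu
  let d : F → G := fun l => if h : l = 0 then 1 else ((eL.symm ⟨l, h⟩ : ↥(pair G a b)) : G)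
  have hd : ∀ l (h : l ≠ 0), ∃ k : ↥(pair G a b), d l = k ∧ L k = l := fun l h =>
    ⟨eL.symm ⟨l, h⟩, dif_neg h, congrArg Subtype.val (eL.apply_symm_apply ⟨l, h⟩)⟩
  have hd' : ∀ k, d (L k) = k := fun k => by
    show dite _ _ _ = _
    rw [dif_neg (hL0 k)]
    exact congrArg Subtype.val (eL.symm_apply_apply k)
  have hdmem : ∀ l, d l ∈ pair G a b := fun l => by
    by_cases h : l = 0
    · simp only [d, dif_pos h, one_mem]
    · obtain ⟨k, hk, -⟩ := hd l h
      rw [hk]; exact k.2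
  let eU := Equiv.ofBijective κ hκ
  let c : F × F → G := fun p => (eU.symm p : U)
  have hc : ∀ g : U, c (κ g) = g := fun g => congrArg Subtype.val (eU.symm_apply_apply g)
  have hcs : ∀ p, ∃ g : U, κ g = p ∧ c p = g := fun p => ⟨eU.symm p, eU.apply_symm_apply p, rfl⟩
  have hc0 : c 0 = 1 := by rw [← hκ1, hc]; rfl
  have c_inj : ∀ p q, c p • b = c q • b → p = q := fun p q e => by
    obtain ⟨g, rfl, hg⟩ := hcs p
    obtain ⟨g', rfl, hg'⟩ := hcs q
    rw [hg, hg'] at e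
    rw [Subtype.ext (hS.kernel.inj hS.ne.symm g.2 g'.2 e)]
  obtain ⟨w, -, ww, wa, wb⟩ :=
    hS.oddInv.pre.exists_swap (hS.oddInv.pre.two_dvd_card hS.ne) hS.ne
  have hcoord : ∀ p : F × F, ∃ q, p ≠ 0 → w • c p • b = c q • b := by
    intro p
    by_cases hp : p = 0
    · exact ⟨0, fun h => absurd hp h⟩
    have hne : w • c p • b ≠ a := fun e => hp (c_inj _ _ (by
      rw [hc0, one_smul]
      exact MulAction.injective w (e.trans wb.symm)))
    obtain ⟨u, hu, hub⟩ := hS.kernel.regular b _ hS.ne.symm hne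
    exact ⟨κ ⟨u, hu⟩, fun _ => by rw [hc, hub]⟩
  choose π hπ using hcoord
  refine ⟨f, F, inferInstance, inferInstance, hchar, θ, c, d, w, π, hodd, hf,
    by rw [hFcard, hcen], hq, hU, ⟨hS.oddInv.pre.faithful, hS.ne, fun p q => ?_,
      fun p => hS.kernel.le _ (eU.symm p).2, fun x hx => ?_, c_inj, fun l m hl hm => ?_,
      fun l => (hdmem l).1, fun l => (hdmem l).2, fun l p hl => ?_, fun g ga gb => ?_,
      fun l p hp e => ?_, wa, wb, ww, fun l hl => ?_, hπ⟩⟩
  · obtain ⟨g, rfl, hg⟩ := hcs p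
    obtain ⟨g', rfl, hg'⟩ := hcs q
    rw [hg, hg', ← hmul, hc]
    rfl
  · obtain ⟨u, hu, hub⟩ := hS.kernel.regular b x hS.ne.symm hx
    exact ⟨κ ⟨u, hu⟩, by rw [hc, hub]⟩
  · obtain ⟨k, hk, rfl⟩ := hd l hl
    obtain ⟨k', hk', rfl⟩ := hd m hm
    rw [hk, hk', ← hLmul, hd']
    rfl
  · obtain ⟨k, hk, rfl⟩ := hd l hl
    obtain ⟨g, rfl, hg⟩ := hcs p
    rw [hk, hg, ← hL, hc, conjHom_coe, inv_mul_cancel_right]
  · exact ⟨L ⟨g, ga, gb⟩, hL0 _, hd' _⟩
  · have hl : l ≠ 0 := by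
      rintro rfl
      exact hp (by rw [← e]; simp [scalA])
    obtain ⟨k, -, rfl⟩ := hd l hl
    obtain ⟨g, rfl, -⟩ := hcs p
    have hg1 : g ≠ 1 := fun h => hp (by rw [h, hκ1])
    rw [hone k g hg1 (hκ.1 (by rw [hL, e]))]
    have h := hLmul 1 1
    rw [one_mul] at h
    exact mul_left_cancel₀ (hL0 1) (by rw [← h, mul_one])
  · obtain ⟨k, hk, rfl⟩ := hd l hl
    have h1 : L k⁻¹ = (L k)⁻¹ := eq_inv_of_mul_eq_one_left (by
      rw [← hLmul, inv_mul_cancel]
      have h := hLmul 1 1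
      rw [one_mul] at h
      exact mul_left_cancel₀ (hL0 1) (by rw [← h, mul_one]))
    rw [hk, ← h1, hd']
    exact mul_inv_eq_iff_eq_mul.1 (hS.oddInv.inv a b hS.ne w wa wb k k.2)

/-- The normalised frame. -/
theorem exists_normal_frame (hS : Setting G a b U) :
    ∃ (f : ℕ) (F : Type) (_ : Field F) (_ : Fintype F) (_ : CharP F 2) (θ : F ≃+* F)
      (c : F × F → G) (d : F → G) (w : G) (π : F × F → F × F) (h : F × F → F),
      Odd f ∧ Fintype.card F = 2 ^ f ∧ Nat.card ↥(pair G a b) + 1 = 2 ^ f ∧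
        IsFrame a b θ c d w π ∧ Alg θ π h ∧ (π (0, 1)).2 = 0 := by
  classical
  haveI := hS.finite_group
  obtain ⟨f, F, _, _, _, θ, c, d, w, π, hodd, hf, hcard, hq, hU, hF⟩ := exists_frame hS
  have h8 : 8 ≤ Fintype.card F := by
    rw [hcard]; exact Nat.pow_le_pow_right (show 1 ≤ 2 by omega) hf
  have hlarge : ∃ x : F, x ≠ 0 ∧ x ≠ 1 := by
    by_contra hcon
    push Not at hcon
    have : Fintype.card F ≤ ({0, 1} : Finset F).card := Finset.card_le_card fun x _ => by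
      rcases eq_or_ne x 0 with h | h
      · simp [h]
      · simp [hcon x h]
    have := Finset.card_le_two (a := (0 : F)) (b := 1)
    omega
  have h3 : ¬ 3 ∣ Nat.card G := by
    obtain ⟨j, rfl⟩ := hodd
    have hqm : (2 ^ (2 * j + 1)) % 3 = 2 := by
      rw [pow_succ, pow_mul, Nat.mul_mod, Nat.pow_mod]
      norm_num
    rw [hS.card_group, hU]
    generalize 2 ^ (2 * j + 1) = Q at hqm hq ⊢
    rw [Nat.dvd_iff_mod_eq_zero, show Nat.card ↥(pair G a b) = Q - 1 by omega]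
    have he : (Q - 1) % 3 = 1 := by omega
    have hs : (Q ^ 2) % 3 = 1 := by rw [Nat.pow_mod, hqm]
    rw [Nat.mul_mod, Nat.mul_mod (Q ^ 2 + 1), Nat.add_mod, hs, he]
    norm_num
  have hα := hF.pi_not_central h3
  have h01 : ((0 : F), (1 : F)) ≠ 0 := fun e => one_ne_zero (congrArg Prod.snd e)
  obtain ⟨A, hA⟩ := FiniteField.isSquare_of_char_two (F := F)
    (CharP.eq F (ringChar.charP F) ‹_›) (π (0, 1)).1
  have hA0 : A ≠ 0 := fun e => hα (by rw [hA, e, mul_zero])
  let φ : F × F ≃ F × F :=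
    { toFun := scalA θ A
      invFun := scalA θ A⁻¹
      left_inv := fun p => by rw [scalA_scalA, inv_mul_cancel₀ hA0, scalA_one]
      right_inv := fun p => by rw [scalA_scalA, mul_inv_cancel₀ hA0, scalA_one] }
  have hF1 := hF.map θ φ (RingEquiv.refl F) (fun p q => scalA_mulA A p q) (fun l p => by
    show scalA θ A (scalA θ l p) = scalA θ l (scalA θ A p)
    rw [scalA_scalA, scalA_scalA, mul_comm])
  have hn : (φ.symm (π (φ (0, 1)))).1 = 1 := by
    show A⁻¹ * (π (scalA θ A (0, 1))).1 = 1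
    rw [hF.pi_scal hA0 h01]
    show A⁻¹ * (A⁻¹ * (π (0, 1)).1) = 1
    rw [hA, inv_mul_cancel_left₀ hA0, inv_mul_cancel₀ hA0]
  obtain ⟨h, hAlg⟩ := hF1.exists_alg hlarge hn
  rcases hAlg.beta_cases with hb | hb
  · exact ⟨f, F, _, _, inferInstance, θ, _, _, w, _, h, hodd, hcard, hq, hF1, hAlg, hb⟩
  have hF2 := hF1.map θ.symm (flip θ).symm θ.symm
    (fun p q => (flip θ).symm_apply_eq.2 (by
      rw [flip_mulA, Equiv.apply_symm_apply, Equiv.apply_symm_apply]))
    (fun l p => (flip θ).symm_apply_eq.2 (by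
      rw [flip_scalA, θ.apply_symm_apply, Equiv.apply_symm_apply]))
  refine ⟨f, F, _, _, inferInstance, θ.symm, _, _, w, _, _, hodd, hcard, hq, hF2, hAlg.flip', ?_⟩
  rw [Equiv.symm_symm, hAlg.flip'_snd, hb, two_zero]

end CfsgLib.ZTUnique
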