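import Cfsg.Agent.Lib.ZTUnique.Iso
import Cfsg.Agent.Lib.SuzukiMatrix.Bridge

/-!
# Zassenhaus groups with nonabelian 2-kernels are Suzuki groups
-/

set_option autoImplicit false
set_option linter.style.haveILetI false

namespace CfsgLib.ZTUnique

open CfsgLib.Suzuki CfsgLib.ZT MulAction

universe u

variable {F : Type} [Field F] [Fintype F] {m : ℕ}

/-- The Suzuki group on its ovoid is a setting. -/
theorem sz_setting (h : SzHyp F m) :
    ∃ (_ : Fintype (Cfsg.suzukiOvoid F m)) (a b : Cfsg.suzukiOvoid F m)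
      (U : Subgroup (Cfsg.Sz F m)), Setting (Cfsg.Sz F m) a b U ∧
        Nat.card ↥(pair (Cfsg.Sz F m) a b) + 1 = 2 ^ (2 * m + 1) := by
  classical
  haveI := h.charTwo
  haveI := CfsgLib.Suzuki.isSimpleGroup h
  letI : Fintype (Cfsg.suzukiOvoid F m) := Fintype.ofFinite _
  have hne : (⟨pInf, pInf_mem⟩ : Cfsg.suzukiOvoid F m) ≠ ⟨pAff m 0 0, pAff_mem 0 0⟩ :=
    fun e => pAff_ne_pInf (F := F) (m := m) 0 0 (congrArg Subtype.val e).symm
  have hS : Setting (Cfsg.Sz F m) (⟨pInf, pInf_mem⟩ : Cfsg.suzukiOvoid F m)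
      ⟨pAff m 0 0, pAff_mem 0 0⟩ (tGroup h) := by
    refine Setting.of_simple (CfsgLib.Suzuki.isZassenhausGroup h) hne ?_ (isPGroup_tGroup h) ?_ ?_
    · rintro g ⟨p, q, rfl⟩
      exact Subtype.ext (tS_smul_pInf h p q)
    · obtain ⟨x, hx0, hx1⟩ := h.exists_ne_zero_one
      refine ⟨tS h 1 0, tS_mem_tGroup h _ _, tS h x 0, tS_mem_tGroup h _ _, fun e => ?_⟩
      rw [tS_mul, tS_mul] at e
      have e2 := (tS_injective h e).2
      simp only [sig_one, one_mul, mul_one, zero_add] at e2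
      have e3 : sig m (sig m x) = sig m x := congrArg (sig m) e2.symm
      rw [h.sig_sig, ← e2, sq] at e3
      exact hx1 (mul_left_cancel₀ hx0 (e3.trans (mul_one x).symm))
    · rintro ⟨y, hy⟩ ⟨z, hz⟩ hya hza
      obtain ⟨y1, y2, rfl⟩ := (mem_ovoid.1 hy).resolve_left fun e => hya (Subtype.ext e)
      obtain ⟨z1, z2, rfl⟩ := (mem_ovoid.1 hz).resolve_left fun e => hza (Subtype.ext e)
      obtain ⟨⟨p, q⟩, hpq, huniq⟩ :
          ∃! ab : F × F, tS h ab.1 ab.2 • pAff m y1 y2 = pAff m z1 z2 := by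
        refine ⟨(z1 - y1, z2 - y2 - sig m (z1 - y1) * y1), ?_, ?_⟩
        · show tS h _ _ • pAff m y1 y2 = pAff m z1 z2
          rw [tS_smul_pAff]
          congr 1 <;> ring
        · rintro ⟨p, q⟩ hab
          rw [tS_smul_pAff] at hab
          obtain ⟨h1, h2⟩ := pAff_inj hab
          have ha : p = z1 - y1 := by linear_combination h1
          subst ha
          refine Prod.ext rfl ?_
          show q = _
          linear_combination h2
      refine ⟨⟨tS h p q, tS_mem_tGroup h p q⟩, Subtype.ext hpq, ?_⟩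
      rintro ⟨g, p', q', rfl⟩ hg
      have := huniq (p', q') (congrArg Subtype.val hg)
      simp only [Prod.mk.injEq] at this
      exact Subtype.ext (by rw [this.1, this.2])
  refine ⟨inferInstance, _, _, _, hS, ?_⟩
  obtain ⟨f, -, -, hq, hU⟩ := hS.order
  rw [card_tGroup h, ← pow_mul] at hU
  have := Nat.pow_right_injective le_rfl hU
  rw [hq, show f = 2 * m + 1 by omega]

/-- A Zassenhaus group with nonabelian 2-kernels is a Suzuki group. -/
theorem isoSuzuki {G : Type u} [Group G] {Ω : Type*} [MulAction G Ω] [Fintype Ω] {a b : Ω}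
    {U : Subgroup G} (hS : Setting G a b U) : Cfsg.Lie.IsoSuzuki G := by
  obtain ⟨f, ⟨m, rfl⟩, hf, hq, -⟩ := hS.order
  have hm : 1 ≤ m := by omega
  haveI : Fact (Nat.Prime 2) := ⟨Nat.prime_two⟩
  let F := GaloisField 2 (2 * m + 1)
  letI : Fintype F := Fintype.ofFinite F
  have hF : Fintype.card F = 2 ^ (2 * m + 1) := by
    rw [← Nat.card_eq_fintype_card, GaloisField.card 2 (2 * m + 1) (by omega)]
  have h : SzHyp F m := ⟨hm, hF⟩
  obtain ⟨_, a', b', U', hS', hq'⟩ := sz_setting h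
  obtain ⟨e⟩ := hS.nonempty_mulEquiv hS' (Nat.add_right_cancel (hq.trans hq'.symm))
  exact ⟨F, inferInstance, inferInstance, m, hm, hF,
    ⟨e.trans (CfsgLib.SuzukiMatrix.szEquiv h)⟩⟩

end CfsgLib.ZTUnique
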