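import Cfsg.Agent.Lib.ZTUnique.Alg

/-!
The structure map determines the twist, and the twist determines the structure map.
-/

set_option autoImplicit false
set_option linter.style.haveILetI false
set_option linter.unusedSectionVars false

namespace CfsgLib.ZTUnique

variable {F : Type*} [Field F] [Fintype F] [CharP F 2] {θ : F ≃+* F}

/-- The change of coordinates turning the twist into its inverse. -/
def flip (θ : F ≃+* F) : F × F ≃ F × F where
  toFun p := (θ p.1, p.2 + p.1 * θ p.1)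
  invFun p := (θ.symm p.1, p.2 + θ.symm p.1 * p.1)
  left_inv p := by
    refine Prod.ext (θ.symm_apply_apply _) ?_
    show p.2 + p.1 * θ p.1 + θ.symm (θ p.1) * θ p.1 = p.2
    rw [θ.symm_apply_apply, add_assoc, two_zero, add_zero]
  right_inv p := by
    refine Prod.ext (θ.apply_symm_apply _) ?_
    show p.2 + θ.symm p.1 * p.1 + θ.symm p.1 * θ (θ.symm p.1) = p.2
    rw [θ.apply_symm_apply, add_assoc, two_zero, add_zero]

theorem flip_mulA (p q : F × F) :
    flip θ (mulA θ p q) = mulA θ.symm (flip θ p) (flip θ q) := by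
  refine Prod.ext (map_add θ _ _) ?_
  show p.2 + q.2 + p.1 * θ q.1 + (p.1 + q.1) * θ (p.1 + q.1) =
    p.2 + p.1 * θ p.1 + (q.2 + q.1 * θ q.1) + θ p.1 * θ.symm (θ q.1)
  rw [map_add, θ.symm_apply_apply]
  linear_combination two_zero (p.1 * θ q.1)

theorem flip_scalA (l : F) (p : F × F) :
    flip θ (scalA θ l p) = scalA θ.symm (θ l) (flip θ p) := by
  refine Prod.ext (map_mul θ _ _) ?_
  show l * θ l * p.2 + l * p.1 * θ (l * p.1) = θ l * θ.symm (θ l) * (p.2 + p.1 * θ p.1)
  rw [map_mul, θ.symm_apply_apply]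
  ring

theorem flip_zero : flip θ (0 : F × F) = 0 := by
  simp [flip]

theorem flip_invA (p : F × F) : flip θ (invA θ p) = invA θ.symm (flip θ p) := by
  refine Prod.ext rfl ?_
  show p.2 + p.1 * θ p.1 + p.1 * θ p.1 = p.2 + p.1 * θ p.1 + θ p.1 * θ.symm (θ p.1)
  rw [θ.symm_apply_apply, mul_comm (θ p.1)]

theorem flip_ne_zero {p : F × F} (hp : p ≠ 0) : flip θ p ≠ 0 :=
  fun e => hp ((flip θ).injective (e.trans flip_zero.symm))

theorem flip_symm_ne_zero {p : F × F} (hp : p ≠ 0) : (flip θ).symm p ≠ 0 := fun e => hp (by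
  rw [← (flip θ).apply_symm_apply p, e, flip_zero])

namespace Alg

variable {π : F × F → F × F} {h : F × F → F}

/-- The hypotheses in the flipped coordinates. -/
theorem flip' (hA : Alg θ π h) : Alg θ.symm
    (fun p => flip θ (π ((flip θ).symm p))) (fun p => θ (h ((flip θ).symm p))) := by
  have hsy : ∀ p q, (flip θ).symm (mulA θ.symm p q) =
      mulA θ ((flip θ).symm p) ((flip θ).symm q) := fun p q => (flip θ).symm_apply_eq.2 (by
    rw [flip_mulA, Equiv.apply_symm_apply, Equiv.apply_symm_apply])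
  have hss : ∀ l p, (flip θ).symm (scalA θ.symm l p) =
      scalA θ (θ.symm l) ((flip θ).symm p) := fun l p => (flip θ).symm_apply_eq.2 (by
    rw [flip_scalA, θ.apply_symm_apply, Equiv.apply_symm_apply])
  have hsi : ∀ p, (flip θ).symm (invA θ.symm p) = invA θ ((flip θ).symm p) := fun p =>
    (flip θ).symm_apply_eq.2 (by rw [flip_invA, Equiv.apply_symm_apply])
  refine ⟨?_, hA.large, fun p hp => flip_ne_zero (hA.ne _ (flip_symm_ne_zero hp)),
    fun p hp => ?_, fun p hp => by simpa using hA.h_ne _ (flip_symm_ne_zero hp), ?_, ?_, ?_, ?_⟩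
  · intro x hx e
    have h1 := congrArg θ e
    rw [map_mul, θ.apply_symm_apply, map_one, mul_comm] at h1
    exact hA.norm_inj x hx h1
  · show flip θ (π ((flip θ).symm (flip θ (π ((flip θ).symm p))))) = p
    rw [Equiv.symm_apply_apply, hA.invol _ (flip_symm_ne_zero hp), Equiv.apply_symm_apply]
  · intro l p hl hp
    show flip θ (π ((flip θ).symm (scalA θ.symm l p))) = _
    rw [hss, hA.scal _ _ (by simpa using hl) (flip_symm_ne_zero hp), flip_scalA, map_inv₀,
      θ.apply_symm_apply]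
  · intro l p hl hp
    show θ (h ((flip θ).symm (scalA θ.symm l p))) = _
    rw [hss, hA.h_scal _ _ (by simpa using hl) (flip_symm_ne_zero hp), map_div₀, map_mul,
      θ.apply_symm_apply]
  · intro p v hp hv h1 h2
    show flip θ (π ((flip θ).symm (mulA θ.symm p (flip θ (π ((flip θ).symm v)))))) = _
    have h1' : mulA θ ((flip θ).symm p) (π ((flip θ).symm v)) ≠ 0 := fun e => h1 (by
      have := congrArg (flip θ) e
      rwa [flip_mulA, Equiv.apply_symm_apply, flip_zero] at this)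
    have h2' : mulA θ (invA θ (π (invA θ ((flip θ).symm p)))) ((flip θ).symm v) ≠ 0 := fun e =>
      h2 (by
        have := congrArg (flip θ) e
        rw [flip_mulA, flip_invA, Equiv.apply_symm_apply, flip_zero] at this
        show mulA θ.symm (invA θ.symm (flip θ (π ((flip θ).symm (invA θ.symm p))))) v = 0
        rwa [hsi])
    rw [hsy, Equiv.symm_apply_apply,
      hA.func _ _ (flip_symm_ne_zero hp) (flip_symm_ne_zero hv) h1' h2', flip_mulA, flip_scalA]
    show _ = mulA θ.symm _ (scalA θ.symm _ (flip θ (π ((flip θ).symm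
      (mulA θ.symm (invA θ.symm (flip θ (π ((flip θ).symm (invA θ.symm p))))) v)))))
    rw [hsy, hsi, Equiv.symm_apply_apply, hsi]
  · show (flip θ (π ((flip θ).symm (0, 1)))).1 = 1
    have e : (flip θ).symm ((0 : F), (1 : F)) = (0, 1) := by simp [flip]
    rw [e]
    show θ (π (0, 1)).1 = 1
    rw [hA.normal, map_one]

theorem flip'_snd (hA : Alg θ π h) :
    (flip θ (π ((flip θ).symm ((0 : F), (1 : F))))).2 = (π (0, 1)).2 + 1 := by
  have e : (flip θ).symm ((0 : F), (1 : F)) = (0, 1) := by simp [flip]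
  rw [e]
  show (π (0, 1)).2 + (π (0, 1)).1 * θ (π (0, 1)).1 = _
  rw [hA.normal, map_one, mul_one]

variable (hA : Alg θ π h) (hβ : (π (0, 1)).2 = 0)
include hA

theorem exists_root' (x : F) : ∃ B : F, B * θ B = x ∧ (x ≠ 0 → B ≠ 0) := by
  by_cases hx : x = 0
  · exact ⟨0, by rw [zero_mul, hx], fun h' => absurd hx h'⟩
  · obtain ⟨B, hB, hB'⟩ := hA.exists_root hx
    exact ⟨B, hB', fun _ => hB⟩

theorem root_eq {x y : F} (e : x * θ x = y * θ y) : x = y := by
  by_cases hy : y = 0
  · rw [hy, zero_mul] at e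
    rcases mul_eq_zero.1 e with h' | h'
    · rw [h', hy]
    · rw [hy]; exact (map_eq_zero_iff θ θ.injective).1 h'
  · exact hA.norm_eq hy e

include hβ

theorem shift_eq {s : F} (hs : s ≠ 1) : hA.shift s = (1 + s)⁻¹ := by
  have h1 := hA.one_add_ne hs
  have h2 : θ (1 + s) ≠ 0 := (map_ne_zero_iff θ θ.injective).2 h1
  show (hA.special s).2 / ((1 + s) * θ (1 + s)) + (π (0, 1)).2 = _
  show ((π (0, 1)).2 + 1 + (π (0, 1)).2 * (s * θ s) + θ s) / _ + (π (0, 1)).2 = _
  rw [hβ, map_add, map_one, zero_mul, zero_add, add_zero, add_zero]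
  rw [map_add, map_one] at h2
  field_simp

/-- The scalar `h (0, 1)` is one and the twist composed with the squaring map is an involution up
to the identity. -/
theorem h_one_and_twist : h (0, 1) = 1 ∧ ∀ x, θ (θ x) * θ (θ x) = x := by
  classical
  choose R hR hR0 using hA.exists_root'
  have hR1 : R 1 = 1 := hA.root_eq (by rw [hR, map_one, mul_one])
  have hRm : ∀ x y, R (x * y) = R x * R y := fun x y => hA.root_eq (by
    rw [hR, map_mul, mul_mul_mul_comm, hR, hR])
  let χ : F → F := fun x => x ^ 2 / R x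
  have hχ0 : χ 0 = 0 := by simp [χ]
  have hχ1 : χ 1 = 1 := by simp [χ, hR1]
  have hχm : ∀ x y, χ (x * y) = χ x * χ y := fun x y => by
    show (x * y) ^ 2 / R (x * y) = _
    rw [hRm, mul_pow, mul_div_mul_comm]
  set μ := (h (0, 1))⁻¹ with hμ
  have key : ∀ b, b ≠ 0 → b ≠ 1 → χ (b + 1) + χ b = μ := by
    intro b hb hb1
    have hbi : (1 : F) + (1 + b⁻¹) = b⁻¹ := by linear_combination two_zero (1 : F)
    have hs0 : 1 + b⁻¹ ≠ 0 := fun e => hb1 (inv_eq_one.1 (CharTwo.add_eq_zero.1 e).symm)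
    have hs1 : 1 + b⁻¹ ≠ 1 := fun e => inv_ne_zero hb (by linear_combination e)
    have hshift : hA.shift (1 + b⁻¹) = b := by rw [hA.shift_eq hβ hs1, hbi, inv_inv]
    have hb1' : b + 1 ≠ 0 := fun e => hb1 (CharTwo.add_eq_zero.1 e)
    have h' := hA.eliminated hs0 hs1 (B := R b) (B' := R (b + 1))
      (by rw [hshift, hR]) (by rw [hshift, hR])
    rw [← hμ, hbi] at h'
    have := hR0 b hb
    have := hR0 (b + 1) hb1'
    show (b + 1) ^ 2 / R (b + 1) + b ^ 2 / R b = μ
    field_simp at h' ⊢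
    linear_combination h'
  have hμ1 : μ = 1 := by
    by_contra hne
    obtain ⟨b, hb, hb1⟩ := hA.large
    have aux : ∀ b : F, b ≠ 0 → b ≠ 1 → χ b = 1 := by
      intro b hb hb1
      have e1 := key b hb hb1
      have e2 := key b⁻¹ (inv_ne_zero hb) (fun e => hb1 (inv_eq_one.1 e))
      have e3 : χ b * (χ (b⁻¹ + 1) + χ b⁻¹) = χ b * μ := by rw [e2]
      rw [mul_add, ← hχm, ← hχm, mul_add, mul_inv_cancel₀ hb, mul_one, hχ1, add_comm 1 b] at e3
      have e4 : (1 + μ) * (1 + χ b) = 0 := by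
        linear_combination (norm := (ring_nf; simp [CharTwo.ofNat_eq_mod])) e3 + e1
      rcases mul_eq_zero.1 e4 with h' | h'
      · exact absurd (CharTwo.add_eq_zero.1 h').symm hne
      · exact (CharTwo.add_eq_zero.1 h').symm
    have e1 := key b hb hb1
    rw [aux b hb hb1, aux (b + 1) (fun e => hb1 (CharTwo.add_eq_zero.1 e))
      (fun e => hb (by linear_combination e)), two_zero] at e1
    exact inv_ne_zero hA.h_one_ne e1.symm
  have hh : h (0, 1) = 1 := inv_eq_one.1 hμ1
  refine ⟨hh, ?_⟩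
  have hsucc : ∀ x, χ (1 + x) = 1 + χ x := by
    intro x
    by_cases hx : x = 0
    · rw [hx, add_zero, hχ0, add_zero, hχ1]
    by_cases hx1 : x = 1
    · rw [hx1, two_zero, hχ0, hχ1, two_zero]
    rw [add_comm 1 x]
    linear_combination key x hx hx1 + hμ1 - two_zero (χ x)
  let ψh : F →+* F :=
    { toFun := χ
      map_one' := hχ1
      map_mul' := hχm
      map_zero' := hχ0
      map_add' := fun x y => by
        by_cases hx : x = 0
        · simp [hx, hχ0]
        have e : x + y = x * (1 + y / x) := by field_simp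
        rw [e, hχm, hsucc, mul_add, mul_one, ← hχm, mul_div_cancel₀ y hx] }
  let ψ : F ≃+* F := RingEquiv.ofBijective ψh
    (Finite.injective_iff_bijective.1 ψh.injective)
  have hψ : ∀ x, ψ x * θ (ψ x) = x * (θ x * θ x) := by
    intro x
    show x ^ 2 / R x * θ (x ^ 2 / R x) = _
    by_cases hx : x = 0
    · simp [hx]
    rw [map_div₀, map_pow, div_mul_div_comm, hR]
    field_simp
  let τ : F ≃+* F := (frobeniusEquiv F 2).trans θ
  let σ : F ≃+* F := ψ.trans θ
  have hτ : ∀ x, τ x = θ x * θ x := fun x => by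
    show θ ((frobeniusEquiv F 2) x) = _
    rw [frobeniusEquiv_def, map_pow, sq]
  have hid : ∀ x, θ x = x → x = 0 ∨ x = 1 := fun x hx => hA.fixed_eq hx
  obtain ⟨b₀, hb₀, hb₀1⟩ := hA.large
  have hne : σ ≠ ψ := fun e => by
    have e' : θ (ψ (ψ.symm b₀)) = ψ (ψ.symm b₀) := RingEquiv.congr_fun e (ψ.symm b₀)
    rw [ψ.apply_symm_apply] at e'
    rcases hid b₀ e' with h' | h' <;> contradiction
  haveI : Finite (F ≃+* F) :=
    Finite.of_injective (fun e : F ≃+* F => (e : F → F)) DFunLike.coe_injective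
  haveI : Fintype (F ≃+* F) := Fintype.ofFinite _
  let c : (F ≃+* F) → F := fun ρ => (if ρ = RingEquiv.refl F then 1 else 0) +
    (if ρ = τ then 1 else 0) + (if ρ = ψ then 1 else 0) + (if ρ = σ then 1 else 0)
  have hc : ∀ ρ, c ρ = 0 := Fintype.linearIndependent_iff.1
    (CfsgLib.SuzukiTwo.linearIndependent_autos (F := F)) c (by
      funext x
      have e : ψ (x + 1) * θ (ψ (x + 1)) = (x + 1) * (θ (x + 1) * θ (x + 1)) := hψ _
      rw [map_add ψ, map_one, map_add θ, map_add θ, map_one] at e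
      have e0 := hψ x
      simp only [c, Finset.sum_apply, Pi.smul_apply, smul_eq_mul, add_mul, ite_mul, one_mul,
        zero_mul, Finset.sum_add_distrib, Finset.sum_ite_eq', Finset.mem_univ, if_true,
        Pi.zero_apply, RingEquiv.coe_toRingHom, RingEquiv.refl_apply]
      rw [hτ]
      show x + θ x * θ x + ψ x + θ (ψ x) = 0
      linear_combination (norm := (ring_nf; simp [CharTwo.ofNat_eq_mod])) e - e0)
  have hψc : ψ = RingEquiv.refl F ∨ ψ = τ := by
    by_contra hcon
    push Not at hcon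
    have := hc ψ
    simp only [c, if_neg hcon.1, if_neg hcon.2, if_neg hne.symm, if_true] at this
    simp at this
  have hσc : σ = RingEquiv.refl F ∨ σ = τ := by
    by_contra hcon
    push Not at hcon
    have := hc σ
    simp only [c, if_neg hcon.1, if_neg hcon.2, if_neg hne, if_true] at this
    simp at this
  rcases hψc with hp | hp
  · exfalso
    rcases hσc with hs | hs
    · exact hne (hs.trans hp.symm)
    have e : σ (θ.symm b₀) = τ (θ.symm b₀) := RingEquiv.congr_fun hs _
    rw [hτ] at e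
    change θ (ψ (θ.symm b₀)) = _ at e
    rw [hp, RingEquiv.refl_apply, θ.apply_symm_apply] at e
    exact hb₀1 (mul_left_cancel₀ hb₀ (e.symm.trans (mul_one b₀).symm))
  · rcases hσc with hs | hs
    · intro x
      have e : σ x = x := RingEquiv.congr_fun hs x
      change θ (ψ x) = x at e
      rwa [hp, hτ, map_mul] at e
    · exact absurd (hs.trans hp.symm) hne

theorem pi_one_eq : π (0, 1) = (1, 0) := Prod.ext hA.normal hβ

theorem pi_one_one : π ((1 : F), (1 : F)) = (1, 1) := by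
  have hν := (hA.h_one_and_twist hβ).1
  have hne1 : ((1 : F), (1 : F)) ≠ 0 := fun e => one_ne_zero (congrArg Prod.fst e)
  have hinv : invA θ ((0 : F), (1 : F)) = (0, 1) := by simp [invA]
  have e1 : mulA θ ((0 : F), (1 : F)) (π (0, 1)) = (1, 1) := by
    rw [hA.pi_one_eq hβ]; simp [mulA]
  have e2 : mulA θ (invA θ (π (0, 1))) ((0 : F), (1 : F)) = (1, 0) := by
    rw [hA.pi_one_eq hβ]
    refine Prod.ext (add_zero 1) ?_
    show (0 : F) + 1 * θ 1 + 1 + 1 * θ 0 = 0
    rw [map_one, map_zero, mul_zero, add_zero, zero_add, mul_one, two_zero]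
  have key := hA.func (0, 1) (0, 1) hA.zero_one_ne hA.zero_one_ne (by rw [e1]; exact hne1)
    (by rw [hinv, e2]; exact fun e => one_ne_zero (congrArg Prod.fst e))
  rw [hinv, e1, e2, ← hA.pi_one_eq hβ, hA.invol _ hA.zero_one_ne, hν, scalA_one] at key
  rw [key, hA.pi_one_eq hβ]
  simp [mulA]

end Alg

/-- The structure map is determined by the twist. -/
theorem Alg.unique {π π' : F × F → F × F} {h h' : F × F → F} (hA : Alg θ π h)
    (hA' : Alg θ π' h') (hβ : (π (0, 1)).2 = 0) (hβ' : (π' (0, 1)).2 = 0) {p : F × F}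
    (hp : p ≠ 0) : π p = π' p := by
  have hν := (hA.h_one_and_twist hβ).1
  have hν' := (hA'.h_one_and_twist hβ').1
  obtain ⟨X, Y⟩ := p
  by_cases hX : X = 0
  · subst hX
    have hY : Y ≠ 0 := fun e => hp (Prod.ext rfl e)
    obtain ⟨B, hB, hBY⟩ := hA.exists_root hY
    rw [hA.pi_central hB hBY, hA'.pi_central hB hBY, hβ, hβ']
  by_cases hY : Y = 0
  · subst hY
    have hN := mul_theta_ne_zero (θ := θ) (inv_ne_zero hX)
    have hne : ((0 : F), X⁻¹ * θ X⁻¹) ≠ 0 := fun e => hN (congrArg Prod.snd e)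
    have e := hA.pi_central (inv_ne_zero hX) (rfl : X⁻¹ * θ X⁻¹ = _)
    have e' := hA'.pi_central (inv_ne_zero hX) (rfl : X⁻¹ * θ X⁻¹ = _)
    rw [hβ, zero_div, inv_inv] at e
    rw [hβ', zero_div, inv_inv] at e'
    rw [← e, hA.invol _ hne, e, ← e', hA'.invol _ hne]
  have hN := mul_theta_ne_zero (θ := θ) hX
  obtain ⟨r, hr⟩ : ∃ r, r = Y / (X * θ X) := ⟨_, rfl⟩
  have hr0 : r ≠ 0 := hr ▸ div_ne_zero hY hN
  have hne : ((1 : F), r) ≠ 0 := fun e => one_ne_zero (congrArg Prod.fst e)
  have hpe : ((X, Y) : F × F) = scalA θ X (1, r) := by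
    refine Prod.ext (mul_one X).symm ?_
    show Y = X * θ X * r
    rw [hr, mul_div_cancel₀ Y hN]
  rw [hpe, hA.scal _ _ hX hne, hA'.scal _ _ hX hne]
  congr 1
  by_cases hr1 : r = 1
  · rw [hr1, hA.pi_one_one hβ, hA'.pi_one_one hβ']
  have hs0 : 1 + r⁻¹ ≠ 0 := fun e => hr1 (inv_eq_one.1 (CharTwo.add_eq_zero.1 e).symm)
  have hs1 : 1 + r⁻¹ ≠ 1 := fun e => inv_ne_zero hr0 (by linear_combination e)
  have hi : (1 + (1 + r⁻¹) : F)⁻¹ ≠ 0 := inv_ne_zero (hA.one_add_ne hs1)
  obtain ⟨e, he, -, hes⟩ := hA.exists_partner hs0 hs1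
  have hsr : ∀ {π₀ : F × F → F × F} {h₀ : F × F → F} (hB : Alg θ π₀ h₀)
      (_ : (π₀ (0, 1)).2 = 0),
      scalA θ (1 + (1 + r⁻¹))⁻¹ (hB.special (1 + r⁻¹)) = (1, r) := by
    intro π₀ h₀ hB hb
    rw [hB.special_eq hs1, hb, add_zero, hB.shift_eq hb hs1]
    have : (1 : F) + (1 + r⁻¹) = r⁻¹ := by linear_combination two_zero (1 : F)
    rw [this, inv_inv]
  have hsp : ∀ t, hA.special t = hA'.special t := fun t => by simp only [Alg.special, hβ, hβ']
  rw [← hsr hA hβ, hA.scal _ _ hi (hA.special_ne hs1), hA.pi_special hs0 hs1 he hes, hν, hsp,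
    hsp, hA'.scal _ _ hi (hA'.special_ne hs1), hA'.pi_special hs0 hs1 he hes, hν']

end CfsgLib.ZTUnique
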